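import Cfsg.Agent.EQ.Basic

/-! Project EQ: assembly of the steps. -/

set_option autoImplicit false
set_option linter.style.haveILetI false

open Cfsg CL.Grp CL.Char MulAction Subgroup

namespace CL.EQ

universe u v

theorem isCharacter_lp {C : Type u} [Group C] (l : C →* ℂˣ) (a : ℕ) : IsCharacter C (lp l a) := by
  have := isCharacter_unitsHom (G := C) ((powMonoidHom a).comp l)
  exact this

theorem ch (h1 : LAM.{u,v}) (h2 : MT.{u,v}) (h3 : D1.{u,v}) (h4 : D2.{u,v}) (h5 : D3.{u}) (h6 : D4.{u,v}) :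
    CH.{u,v} := by
  intro G Ω _ _ _ _ p q t Δ h
  classical
  haveI : Fintype G := Fintype.ofFinite G
  haveI : Fintype (centralizer ({t ^ p} : Set G)) := Fintype.ofFinite _
  obtain ⟨l, hl⟩ := h1 G Ω p q t Δ h
  have hM := h2 G Ω p q t Δ h
  have hd1 := h3 G Ω p q t Δ l h hl
  obtain ⟨ha, ⟨R, hR2, hR, hRtr⟩, hone, htwo⟩ := h4 G Ω p q t Δ l h hl
  have hd4 := h6 G Ω p q t Δ l h hl ha hM
  have hp := h.hp
  have hp5 := h.p5
  have nd : ∀ i : ℕ, ¬ p ∣ 1 + i * p := fun i hd =>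
    hp.one_lt.ne' (Nat.dvd_one.mp ((Nat.dvd_add_left (dvd_mul_left p i)).mp hd))
  have me : ∀ i j : ℕ, 1 + i * p ≡ 1 + j * p [MOD p] := fun i j => by
    simp [Nat.ModEq]
  have nm : ∀ i j : ℕ, i < j → j < p → ¬ 1 + i * p ≡ 1 + j * p [MOD p ^ 2] := fun i j hij hj hm => by
    have := hm.eq_of_lt_of_lt (by nlinarith) (by nlinarith)
    have h' : i * p = j * p := by omega
    have := Nat.eq_of_mul_eq_mul_right hp.pos h'
    omega
  have htC : t ∈ centralizer ({t ^ p} : Set G) := by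
    rw [mem_centralizer_singleton_iff]
    exact (Commute.self_pow t p).eq
  have hmu : classInner (fun _ : centralizer ({t ^ p} : Set G) => (1 : ℂ)) (lp l p) = 0 := by
    rw [← conj_classInner, classInner_one_right]
    have : ∑ g : centralizer ({t ^ p} : Set G), lp l p g = 0 := by
      have hne : (powMonoidHom p).comp l ≠ 1 := by
        intro e
        have e1 : l ⟨t, htC⟩ ^ p = 1 := DFunLike.congr_fun e ⟨t, htC⟩
        have := orderOf_dvd_of_pow_eq_one e1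
        rw [hl.ord htC] at this
        have := Nat.le_of_dvd hp.pos this
        nlinarith
      have := sum_hom_units_eq_zero ((Units.coeHom ℂ).comp ((powMonoidHom p).comp l)) (fun e => hne ?_)
      · exact this
      · ext x
        exact DFunLike.congr_fun e x
    rw [this]; simp
  obtain ⟨hpi, hR'⟩ := h5 G (centralizer ({t ^ p} : Set G)) (pc G Ω) {a | ¬ p ∣ a} (lp l) (lp l p) R
    (1 + 0 * p) (1 + 1 * p) (1 + 2 * p) (isCharacter_permChar Ω) (fun a _ => isCharacter_lp l a)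
    (isCharacter_lp l p) (fun a _ => by simp [lp]) (fun a ha' => (hd1 a a ha' ha').2.1 rfl)
    (fun a ha' b hb' => (hd1 a b ha' hb').1) (nd 0) (nd 1) (nd 2)
    ((hd1 _ _ (nd 0) (nd 1)).2.2 (me 0 1) (nm 0 1 (by omega) (by omega)))
    ((hd1 _ _ (nd 0) (nd 2)).2.2 (me 0 2) (nm 0 2 (by omega) (by omega)))
    ((hd1 _ _ (nd 1) (nd 2)).2.2 (me 1 2) (nm 1 2 (by omega) (by omega)))
    ha hR2 hR hd4 hone hmu
  exact ⟨htwo hpi, hRtr hR'⟩

theorem no_hyp (h1 : RB.{u,v}) (h2 : RC.{u,v}) (h3 : C2.{u,v}) (h4 : RY.{u,v}) (h5 : CH.{u,v}) (h6 : E1.{u,v})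
    (h7 : E2.{u,v}) (h8 : FX.{u,v}) (G : Type u) (Ω : Type v) [Group G] [Finite G] [MulAction G Ω] [Finite Ω]
    (p q : ℕ) (h : Hyp G Ω p q) : False := by
  obtain ⟨P, B, Δ, hB⟩ := h1 G Ω p q h
  have hC := h2 G Ω p q P B Δ hB
  rcases lt_or_ge p (Nat.card B) with hlt | hle
  · exact h3 G Ω p q P B Δ hC hlt
  · obtain ⟨t, hY⟩ := h4 G Ω p q P B Δ hC hle
    obtain ⟨h2t, htr⟩ := h5 G Ω p q t Δ hY
    obtain ⟨e1, e2, e3⟩ := h6 G Ω p q t Δ hY h2t htr
    exact h7 G Ω p q t Δ hY h2t e1 e2 e3 (h8 G Ω p q t Δ hY).2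

theorem main (H : ∀ (G : Type u) (Ω : Type v) [Group G] [Finite G] [MulAction G Ω] [Finite Ω]
    (p q : ℕ), Hyp G Ω p q → False)
    {G : Type u} {Ω : Type v} [Group G] [Finite G] [MulAction G Ω] [FaithfulSMul G Ω] [Finite Ω]
    (htrans : MulAction.IsPretransitive G Ω) (p q : ℕ) (hp : p.Prime) (hq : q.Prime) (hp2 : p ≠ 2) (hq2 : q ≠ 2)
    (hpq : p ≠ q) (hcard : Nat.card Ω = 2 * p * q) :
    ∃ g : G, (orderOf g).Prime ∧ ∀ ω : Ω, g • ω ≠ ω := by
  by_contra hne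
  have el : ∀ g : G, (orderOf g).Prime → ∃ a : Ω, g • a = a := fun g hg => by
    by_contra hn
    exact hne ⟨g, hg, fun ω e => hn ⟨ω, e⟩⟩
  have faith : ∀ g : G, (∀ a : Ω, g • a = a) → g = 1 := fun g hg =>
    FaithfulSMul.eq_of_smul_eq_smul (α := Ω) (fun a => by rw [hg a, one_smul])
  have tr : ∀ a b : Ω, ∃ g : G, g • a = b := fun a b => htrans.exists_smul_eq a b
  have key : ∀ p q : ℕ, p.Prime → q.Prime → q ≠ 2 → q < p → Nat.card Ω = 2 * p * q → False := by
    intro p q hp hq hq2 hlt hc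
    have q3 : 3 ≤ q := by have := hq.two_le; omega
    have p5 : 5 ≤ p := by
      by_contra h5
      have : p = 4 := by omega
      subst this
      exact absurd hp (by decide)
    exact H G Ω p q ⟨faith, tr, hp, hq, q3, hlt, p5, hc, el⟩
  rcases lt_or_gt_of_ne hpq with h | h
  · exact key q p hq hp hp2 h (by rw [hcard]; ring)
  · exact key p q hp hq hq2 h hcard

end CL.EQ
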