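import Cfsg.Agent.EQ.Basic

/-! Project EQ: Burnside's transfer theorem for a cyclic Sylow subgroup of order `p ^ 2`, and its first use. -/

set_option autoImplicit false

open Cfsg CL.Grp MulAction Subgroup

namespace CL.EQ

universe u v

namespace BUx

variable {G : Type u} [Group G] {p : ℕ} {t n w : G} {H U : Subgroup G}

theorem memp (hp : p.Prime) (h : w ^ p ^ 2 ∈ H) (ho : ¬ p ∣ orderOf w) : w ∈ H :=
  zpowers_le.2 h (mem_zpowers_pow_iff.2 (((Nat.Prime.coprime_iff_not_dvd hp).2 ho).pow_left 2))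

theorem conj_iter {a : ℤ} (h : n * t * n⁻¹ = t ^ a) (k : ℕ) : n ^ k * t * (n ^ k)⁻¹ = t ^ a ^ k := by
  induction k with
  | zero => simp
  | succ k ih =>
    calc n ^ (k + 1) * t * (n ^ (k + 1))⁻¹ = n * (n ^ k * t * (n ^ k)⁻¹) * n⁻¹ := by rw [pow_succ']; group
      _ = _ := by rw [ih, ← conj_zpow, h, ← zpow_mul, pow_succ']

theorem cent [Finite G] (hp : p.Prime) (ho : orderOf t = p ^ 2) (hS : IsSylowIn p (zpowers t) U) (hn : n ∈ U)
    (hN : n ∈ normalizer ((zpowers t : Subgroup G) : Set G))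
    (h : n * t ^ p * n⁻¹ = t ^ p ∨ n * t * n⁻¹ * t⁻¹ ∈ zpowers (t ^ p)) : n ∈ centralizer {t} := by
  have := Fact.mk hp
  obtain ⟨a, ha⟩ := mem_zpowers_iff.1 ((mem_normalizer_iff.1 hN t).1 (mem_zpowers t))
  have p0 : (p : ℤ) ≠ 0 := by exact_mod_cast hp.ne_zero
  have h1 : (p : ℤ) ∣ a - 1 := by
    rcases h with h | ⟨j, h⟩
    · rw [← conj_pow, ← ha, ← zpow_natCast, ← zpow_natCast, ← zpow_mul, zpow_eq_zpow_iff_modEq, ho] at h
      have := h.symm.dvd
      rw [show a * (p : ℤ) - p = p * (a - 1) by ring, Nat.cast_pow, pow_two] at this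
      exact (mul_dvd_mul_iff_left p0).1 this
    · simp only at h
      rw [← ha, ← zpow_sub_one, ← zpow_natCast, ← zpow_mul, zpow_eq_zpow_iff_modEq, ho] at h
      have := (Dvd.intro _ (pow_two (p : ℤ)).symm).trans (Nat.cast_pow (α := ℤ) p 2 ▸ h.dvd)
      exact (dvd_sub_left (dvd_mul_right _ j)).1 this
  have h2 : n ^ p ∈ centralizer {t} := by
    have k := conj_iter ha.symm p
    have := dvd_sub_pow_of_dvd_sub h1 1
    rw [pow_one, one_pow] at this
    rw [(zpow_eq_zpow_iff_modEq (n := 1)).2 (by rw [ho]; exact (Int.modEq_iff_dvd.2 (by exact_mod_cast this)).symm),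
      zpow_one] at k
    exact mem_centralizer_singleton_iff.2 (mul_inv_eq_iff_eq_mul.1 k)
  obtain ⟨i, m, hm, e⟩ := Nat.exists_eq_pow_mul_and_not_dvd (orderOf_pos n).ne' p hp.ne_one
  have h3 : n ^ m ∈ centralizer {t} := by
    have pg : IsPGroup p (zpowers (n ^ m)) := by
      rintro ⟨_, j, rfl⟩
      refine ⟨i, Subtype.ext ?_⟩
      show ((n ^ m) ^ j) ^ p ^ i = 1
      rw [← zpow_natCast, ← zpow_mul, mul_comm, zpow_mul, zpow_natCast, ← pow_mul, mul_comm, ← e, pow_orderOf_eq_one,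
        one_zpow]
    have k := hS.eq_of_le (hS.isPGroup.to_sup_of_normal_left' pg (zpowers_le.2 (pow_mem hN m))) le_sup_left
      (sup_le hS.le (zpowers_le.2 (pow_mem hn m)))
    exact zpowers_le.2 (mem_centralizer_singleton_iff.2 rfl) (k.le (mem_sup_right (mem_zpowers _)))
  have := mul_mem (zpow_mem h2 (Nat.gcdA p m)) (zpow_mem h3 (Nat.gcdB p m))
  rwa [← zpow_natCast, ← zpow_natCast, ← zpow_mul, ← zpow_mul, ← zpow_add, ← Nat.gcd_eq_gcd_ab,
    (Nat.Prime.coprime_iff_not_dvd hp).2 hm, Nat.cast_one, zpow_one] at this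

end BUx

open BUx

theorem bu : BU.{u} := by
  intro G _ _ p t U hp ho hS h
  have := Fact.mk hp
  have hN : normalizer (hS.toSylow : Set U) ≤ centralizer (hS.toSylow : Set U) := fun n hn x hx => by
    have k : n ∈ (normalizer ((zpowers t : Subgroup G) : Set G)).subgroupOf U := by
      rw [subgroupOf_normalizer_eq hS.le]; exact hn
    have k' : (x : G) ∈ centralizer {(n : G)} := zpowers_le.2
      (mem_centralizer_singleton_iff.2 (mem_centralizer_singleton_iff.1 (cent hp ho hS n.2 k (h n n.2 k))).symm) hx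
    exact Subtype.ext (mem_centralizer_singleton_iff.1 k')
  have c := MonoidHom.ker_transferSylow_isComplement' hS.toSylow hN
  generalize hK : (MonoidHom.transferSylow hS.toSylow hN).ker = K at c
  have nK : K.Normal := hK ▸ inferInstance
  refine ⟨K.map U.subtype, map_subtype_le _, fun u hu => ?_, ?_, fun w hw => ?_, fun w hw hw' => ?_⟩
  · refine mem_normalizer_fintype ?_
    rintro _ ⟨k, hk, rfl⟩
    exact ⟨_, nK.conj_mem k hk ⟨u, hu⟩, rfl⟩
  · rw [card_map_of_injective U.subtype_injective, ← c.index_eq_card]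
    exact hS.not_dvd
  · obtain ⟨⟨k, x⟩, e, -⟩ := IsComplement.existsUnique c ⟨w, hw⟩
    obtain ⟨j, hj⟩ := mem_powers_iff_mem_zpowers.2 (show ((x : U) : G) ∈ zpowers t from x.2)
    exact ⟨_, ⟨k, k.2, rfl⟩, j, (congrArg Subtype.val e).symm.trans (congrArg (((k : U) : G) * ·) hj.symm)⟩
  · refine memp hp ⟨⟨w, hw⟩ ^ K.index, K.pow_index_mem _, ?_⟩ hw'
    rw [c.symm.index_eq_card, hS.coe_toSylow, card_subgroupOf_of_le hS.le, Nat.card_zpowers, ho]
    rfl

theorem fx (h : BU.{u}) : FX.{u, v} := by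
  intro G Ω _ _ _ _ p q t Δ c
  have h1 : ∀ K : Subgroup G, ¬ p ∣ Nat.card K → t ∈ normalizer (K : Set G) → (∀ k ∈ K, ∀ a ∈ Δ, k • a ∈ Δ) →
      ∀ k ∈ K, ∀ a ∈ Δ, k • a = a := fun K hK ht hD k hk a ha => by
    have e : orb (K ⊔ zpowers t) a = Δ := Set.ext fun b => ⟨by
      rintro ⟨u, hu, rfl⟩
      obtain ⟨k, hk, x, hx, rfl⟩ := (mem_sup_iff_of_le_normalizer (zpowers_le.2 ht)).1 hu
      rw [mul_smul]
      exact hD k hk _ (c.invD x hx a ha), fun hb => orb_mono le_sup_right a (c.trD a ha b hb)⟩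
    have d := osz_dvd_of_normalized (le_sup_left : K ≤ K ⊔ zpowers t) (sup_le le_normalizer (zpowers_le.2 ht)) a
    rw [osz_eq_ncard (K ⊔ _), e, c.cardD] at d
    exact osz_eq_one_iff.1 (Nat.eq_one_of_dvd_coprimes (((Nat.Prime.coprime_iff_not_dvd c.hp).2 hK).pow_left 2) d
      (osz_dvd_card K a)) k hk
  refine ⟨h1, fun g hg => ?_⟩
  obtain ⟨a₀, ha₀⟩ := c.neG
  have mL : ∀ {l : G}, l ∈ fixingSubgroup G Δᶜ ↔ ∀ a, a ∉ Δ → l • a = a := mem_fixingSubgroup_iff G
  generalize fixingSubgroup G Δᶜ = L at mL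
  have out : ∀ x ∈ zpowers t, ∀ a, a ∉ Δ → x • a ∉ Δ := fun x hx a ha k =>
    ha (by simpa using c.invD _ (inv_mem hx) _ k)
  have nL : zpowers t ≤ normalizer (L : Set G) := fun x hx => mem_normalizer_fintype fun l hl => mL.2 fun a ha => by
    rw [mul_smul, mul_smul, mL.1 hl _ (out _ (inv_mem hx) a ha), smul_inv_smul]
  have st : ∀ x ∈ zpowers t, x ∈ L → x ∈ zpowers (t ^ p) := fun x hx hl => (c.stG x hx a₀ ha₀).1 (mL.1 hl a₀ ha₀)
  obtain ⟨K, hK⟩ := h G p t (L ⊔ zpowers t) c.hp c.ord (c.syl.of_le le_sup_right le_top) fun n hn hN => .inr (by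
    refine st _ (mul_mem ((mem_normalizer_iff.1 hN t).1 (mem_zpowers t)) (inv_mem (mem_zpowers t))) ?_
    obtain ⟨l, hl, _, ⟨j, rfl⟩, rfl⟩ := (mem_sup_iff_of_le_normalizer nL).1 hn
    rw [show l * (fun x : ℤ => t ^ x) j * t * (l * (fun x : ℤ => t ^ x) j)⁻¹ * t⁻¹ = l * (t * l⁻¹ * t⁻¹) by
      simp only; group]
    exact mul_mem hl ((mem_normalizer_iff.1 (nL (mem_zpowers t)) _).1 (inv_mem hl)))
  have KL : K ≤ L := fun k hk => by
    obtain ⟨l, hl, x, hx, e⟩ := (mem_sup_iff_of_le_normalizer nL).1 (hK.le hk)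
    have it : ∀ a, a ∉ Δ → ∀ j : ℕ, k ^ j • a = x ^ j • a := fun a ha j => by
      induction j with
      | zero => rw [pow_zero, pow_zero]
      | succ j ih => rw [pow_succ', mul_smul, ih, e, mul_smul, ← mul_smul x, ← pow_succ',
          mL.1 hl _ (out _ (pow_mem hx _) a ha)]
    refine memp c.hp (mL.2 fun a ha => ?_) fun d => hK.cop (d.trans (K.orderOf_dvd_natCard hk))
    rw [it a ha, orderOf_dvd_iff_pow_eq_one.1 (c.ord ▸ orderOf_dvd_of_mem_zpowers hx), one_smul]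
  obtain ⟨k, hk, j, e⟩ := hK.dec g (mem_sup_left (mL.2 hg))
  have k1 : k = 1 := c.faith k fun a => by
    by_cases ha : a ∈ Δ
    · refine h1 K hK.cop (hK.nrm (mem_sup_right (mem_zpowers t))) (fun k hk a ha => ?_) k hk a ha
      by_contra hb
      exact hb ((smul_left_cancel k (mL.1 (KL hk) _ hb)).symm ▸ ha)
    · exact mL.1 (KL hk) a ha
  rw [k1, one_mul] at e
  exact st g (e ▸ npow_mem_zpowers t j) (mL.2 hg)

end CL.EQ
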