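import Cfsg.Agent.EQ.Defs

/-! Project EQ: small lemmas on orbits and orbit lengths. -/

set_option autoImplicit false
set_option linter.style.haveILetI false

open Cfsg CL.Grp MulAction Subgroup
open scoped Pointwise

namespace CL.EQ

universe u v

variable {G : Type u} {Ω : Type v} [Group G] [MulAction G Ω]

theorem mem_orb {B : Subgroup G} {a x : Ω} : x ∈ orb B a ↔ ∃ b ∈ B, b • a = x := Iff.rfl

theorem self_mem_orb (B : Subgroup G) (a : Ω) : a ∈ orb B a := ⟨1, B.one_mem, one_smul _ _⟩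

theorem smul_mem_orb {B : Subgroup G} {a x : Ω} {b : G} (hb : b ∈ B) (hx : x ∈ orb B a) :
    b • x ∈ orb B a := by
  obtain ⟨c, hc, rfl⟩ := hx
  exact ⟨b * c, B.mul_mem hb hc, mul_smul _ _ _⟩

theorem orb_mono {A B : Subgroup G} (h : A ≤ B) (a : Ω) : orb A a ⊆ orb B a :=
  fun _ ⟨c, hc, e⟩ => ⟨c, h hc, e⟩

theorem orb_eq_of_mem {B : Subgroup G} {a x : Ω} (hx : x ∈ orb B a) : orb B x = orb B a := by
  obtain ⟨c, hc, rfl⟩ := hx
  ext y
  constructor
  · rintro ⟨b, hb, rfl⟩
    exact ⟨b * c, B.mul_mem hb hc, mul_smul _ _ _⟩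
  · rintro ⟨b, hb, rfl⟩
    exact ⟨b * c⁻¹, B.mul_mem hb (B.inv_mem hc), by rw [mul_smul, inv_smul_smul]⟩

theorem mem_orb_symm {B : Subgroup G} {a x : Ω} (hx : x ∈ orb B a) : a ∈ orb B x := by
  rw [orb_eq_of_mem hx]; exact self_mem_orb B a

theorem disjoint_orb {B : Subgroup G} {a x : Ω} (hx : x ∉ orb B a) : Disjoint (orb B x) (orb B a) := by
  rw [Set.disjoint_left]
  intro y h1 h2
  exact hx (by rw [← orb_eq_of_mem h2]; exact mem_orb_symm h1)

theorem orb_eq_orbit (B : Subgroup G) (a : Ω) : orb B a = orbit B a := by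
  ext x
  constructor
  · rintro ⟨b, hb, rfl⟩; exact ⟨⟨b, hb⟩, rfl⟩
  · rintro ⟨b, rfl⟩; exact ⟨b, b.2, rfl⟩

theorem osz_eq_ncard (B : Subgroup G) (a : Ω) : osz B a = (orb B a).ncard := by
  rw [orb_eq_orbit, ← index_stabilizer B a]
  rfl

theorem osz_eq_relIndex_inf (B : Subgroup G) (a : Ω) : osz B a = (B ⊓ stabilizer G a).relIndex B := by
  rw [osz, inf_comm, inf_relIndex_right]

theorem osz_mul_card (B : Subgroup G) (a : Ω) :
    osz B a * Nat.card (B ⊓ stabilizer G a : Subgroup G) = Nat.card B := by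
  rw [osz_eq_relIndex_inf, mul_comm]
  have := card_mul_index ((B ⊓ stabilizer G a).subgroupOf B)
  rwa [card_subgroupOf_of_le inf_le_left] at this

theorem osz_dvd_card (B : Subgroup G) (a : Ω) : osz B a ∣ Nat.card B := ⟨_, (osz_mul_card B a).symm⟩

theorem osz_pos [Finite G] (B : Subgroup G) (a : Ω) : 0 < osz B a :=
  Nat.pos_of_dvd_of_pos (osz_dvd_card B a) Nat.card_pos

theorem osz_le_card [Finite Ω] (B : Subgroup G) (a : Ω) : osz B a ≤ Nat.card Ω := by
  rw [osz_eq_ncard]; exact Set.ncard_le_card _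

theorem osz_eq_one_iff {B : Subgroup G} {a : Ω} : osz B a = 1 ↔ ∀ b ∈ B, b • a = a := by
  rw [osz, relIndex_eq_one]; rfl

theorem osz_eq_of_mem {B : Subgroup G} {a x : Ω} (hx : x ∈ orb B a) : osz B x = osz B a := by
  rw [osz_eq_ncard, osz_eq_ncard, orb_eq_of_mem hx]

theorem osz_mono [Finite Ω] {A B : Subgroup G} (h : A ≤ B) (a : Ω) : osz A a ≤ osz B a := by
  rw [osz_eq_ncard, osz_eq_ncard]
  exact Set.ncard_le_ncard (orb_mono h a) (Set.toFinite _)

theorem orb_eq_of_osz_le [Finite Ω] {A B : Subgroup G} (h : A ≤ B) {a : Ω} (hc : osz B a ≤ osz A a) :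
    orb A a = orb B a := by
  rw [osz_eq_ncard, osz_eq_ncard] at hc
  exact Set.eq_of_subset_of_ncard_le (orb_mono h a) hc (Set.toFinite _)

theorem orb_smul {B : Subgroup G} {n : G} (hn : n ∈ normalizer (B : Set G)) (a : Ω) :
    orb B (n • a) = (fun x => n • x) '' orb B a := by
  ext y
  constructor
  · rintro ⟨b, hb, rfl⟩
    refine ⟨(n⁻¹ * b * n) • a, ⟨_, ?_, rfl⟩, by simp [mul_smul]⟩
    have := (mem_normalizer_iff.mp ((normalizer (B : Set G)).inv_mem hn) b).mp hb
    simpa using this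
  · rintro ⟨_, ⟨b, hb, rfl⟩, rfl⟩
    exact ⟨n * b * n⁻¹, (mem_normalizer_iff.mp hn b).mp hb, by simp [mul_smul]⟩

theorem osz_smul {B : Subgroup G} {n : G} (hn : n ∈ normalizer (B : Set G)) (a : Ω) :
    osz B (n • a) = osz B a := by
  rw [osz_eq_ncard, osz_eq_ncard, orb_smul hn]
  exact Set.ncard_image_of_injective _ (MulAction.injective n)

theorem exists_osz_eq_pow [Finite G] {r : ℕ} (hr : r.Prime) {S : Subgroup G} (hS : IsPGroup r S) (a : Ω) :
    ∃ k : ℕ, osz S a = r ^ k := by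
  haveI := Fact.mk hr
  obtain ⟨n, hn⟩ := IsPGroup.iff_card.mp hS
  obtain ⟨k, -, hk⟩ := (Nat.dvd_prime_pow hr).mp (hn ▸ osz_dvd_card S a)
  exact ⟨k, hk⟩

/-- the orbit lengths of a Sylow subgroup are divisible by `r` when those of the group are -/
theorem dvd_osz_of_sylow [Finite G] {r : ℕ} (hr : r.Prime) {S H : Subgroup G} (hS : IsSylowIn r S H) {a : Ω}
    (h : r ∣ osz H a) : r ∣ osz S a := by
  haveI := Fact.mk hr
  by_contra hn
  obtain ⟨k, hk⟩ := exists_osz_eq_pow hr hS.isPGroup a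
  have hk0 : k = 0 := by
    by_contra h0
    exact hn (hk ▸ dvd_pow_self r h0)
  rw [hk0, pow_zero, osz_eq_one_iff] at hk
  have := hS.not_dvd_relIndex_of_le (K := H ⊓ stabilizer G a) (fun x hx => ⟨hS.le hx, hk x hx⟩) inf_le_left
  exact this (osz_eq_relIndex_inf H a ▸ h)

/-- the orbit length of a normal subgroup divides the orbit length of the group -/
theorem osz_dvd_of_normalized {K H : Subgroup G} (hKH : K ≤ H) (hn : H ≤ normalizer (K : Set G)) (a : Ω) :
    osz K a ∣ osz H a := by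
  haveI : (K.subgroupOf H).Normal := normal_subgroupOf_of_le_normalizer' hn
  set S : Subgroup H := (stabilizer G a).subgroupOf H
  have e1 : osz K a = S.relIndex (K.subgroupOf H) := by
    rw [osz]; exact (relIndex_subgroupOf hKH).symm
  have e2 : osz H a = S.index := rfl
  have e3 : S.relIndex (K.subgroupOf H) = S.relIndex (S ⊔ K.subgroupOf H) := by
    have h1 : ∀ T : Subgroup H, S.relIndex T = (orbit T a).ncard := fun T => by
      rw [← index_stabilizer T a]; rfl
    rw [h1, h1]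
    congr 1
    ext y
    constructor
    · rintro ⟨b, rfl⟩
      exact ⟨⟨b.1, (le_sup_right : K.subgroupOf H ≤ _) b.2⟩, rfl⟩
    · rintro ⟨⟨b, hb⟩, rfl⟩
      rw [sup_comm] at hb
      have hb' : b ∈ ((K.subgroupOf H : Set H) * (S : Set H)) := by
        rw [← normal_mul]; exact hb
      obtain ⟨k, hk, s, hs, rfl⟩ := hb'
      refine ⟨⟨k, hk⟩, ?_⟩
      have hs' : (s : G) • a = a := hs
      change (k : G) • a = ((k : G) * (s : G)) • a
      rw [mul_smul, hs']
  rw [e1, e2, e3]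
  exact relIndex_dvd_index_of_le le_sup_left

/-- a faithful `p`-group whose orbit lengths divide `p` is elementary abelian -/
theorem ea_of_osz_dvd [Finite G] {p : ℕ} (hp : p.Prime) (hf : ∀ g : G, (∀ a : Ω, g • a = a) → g = 1)
    {B : Subgroup G} (hB : IsPGroup p B) (h : ∀ a : Ω, osz B a ∣ p) : EA p B := by
  haveI := Fact.mk hp
  have key : ∀ a : Ω, (∀ x ∈ B, ∀ y ∈ B, (x * y * x⁻¹ * y⁻¹) • a = a) ∧ ∀ x ∈ B, (x ^ p) • a = a := by
    intro a
    set S : Subgroup B := (stabilizer G a).subgroupOf B with hSdef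
    have hi : S.index ∣ p := h a
    have hN : S.Normal := by
      rcases (Nat.dvd_prime hp).mp hi with h1 | h1
      · rw [index_eq_one.mp h1]; infer_instance
      · obtain ⟨n, hn⟩ := IsPGroup.iff_card.mp hB
        have hn0 : n ≠ 0 := by
          rintro rfl
          have := S.index_dvd_card
          rw [hn, h1, pow_zero, Nat.dvd_one] at this
          exact hp.one_lt.ne' this
        apply Subgroup.normal_of_index_eq_minFac_card
        rw [h1, hn, hp.pow_minFac hn0]
    have hcyc : IsCyclic (B ⧸ S) := by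
      rcases (Nat.dvd_prime hp).mp hi with h1 | h1
      · haveI : Subsingleton (B ⧸ S) := (Nat.card_eq_one_iff_unique.mp h1).1
        infer_instance
      · exact isCyclic_of_prime_card (p := p) h1
    constructor
    · intro x hx y hy
      have : (⟨x, hx⟩ * ⟨y, hy⟩ * ⟨x, hx⟩⁻¹ * ⟨y, hy⟩⁻¹ : B) ∈ S := by
        rw [← QuotientGroup.eq_one_iff]
        simp only [QuotientGroup.mk_mul, QuotientGroup.mk_inv]
        letI := IsCyclic.commGroup (α := B ⧸ S)
        rw [mul_comm (((⟨x, hx⟩ : B) : B ⧸ S)) _]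
        group
      exact this
    · intro x hx
      obtain ⟨c, hc⟩ := hi
      have : (⟨x, hx⟩ : B) ^ p ∈ S := by
        rw [hc, pow_mul]; exact S.pow_mem (S.pow_index_mem _) _
      exact this
  refine ⟨fun x hx y hy => ?_, fun x hx => hf _ fun a => (key a).2 x hx⟩
  have := hf _ fun a => (key a).1 x hx y hy
  rwa [mul_inv_eq_one, mul_inv_eq_iff_eq_mul] at this

theorem EA.isPGroup {p : ℕ} {B : Subgroup G} (h : EA p B) : IsPGroup p B :=
  fun x => ⟨1, Subtype.ext (by simpa using h.2 x x.2)⟩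

theorem EA.mono {p : ℕ} {A B : Subgroup G} (h : EA p B) (hA : A ≤ B) : EA p A :=
  ⟨fun a ha b hb => h.1 a (hA ha) b (hA hb), fun a ha => h.2 a (hA ha)⟩

theorem EA.conj {p : ℕ} {B : Subgroup G} (h : EA p B) (g : G) : EA p (MulAut.conj g • B : Subgroup G) := by
  constructor
  · intro a ha b hb
    rw [mem_conj_smul_iff] at ha hb
    have := h.1 _ ha _ hb
    have e : g⁻¹ * (a * b) * g = g⁻¹ * (b * a) * g := by
      calc g⁻¹ * (a * b) * g = (g⁻¹ * a * g) * (g⁻¹ * b * g) := by group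
        _ = (g⁻¹ * b * g) * (g⁻¹ * a * g) := this
        _ = _ := by group
    simpa using e
  · intro a ha
    rw [mem_conj_smul_iff] at ha
    have := h.2 _ ha
    have e : (g⁻¹ * a * g) ^ p = g⁻¹ * a ^ p * g := by simpa using conj_pow (a := g⁻¹) (b := a) (i := p)
    rw [e] at this
    calc a ^ p = g * (g⁻¹ * a ^ p * g) * g⁻¹ := by group
      _ = 1 := by rw [this]; group

/-- an element of a commutative subgroup fixing `a` fixes the orbit of `a` -/
theorem EA.fix_orb {p : ℕ} {B : Subgroup G} (h : EA p B) {x : G} (hx : x ∈ B) {a y : Ω} (ha : x • a = a)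
    (hy : y ∈ orb B a) : x • y = y := by
  obtain ⟨b, hb, rfl⟩ := hy
  rw [← mul_smul, h.1 x hx b hb, mul_smul, ha]

/-- Witt's lemma: the normaliser of a Sylow subgroup of a point stabiliser is transitive on its fixed points -/
theorem witt [Finite G] {X : Type*} [MulAction G X] {p : ℕ} (hp : p.Prime) {B : Subgroup G} {x y : X} {g : G}
    (hg : g • x = y) (hy : IsSylowIn p B (stabilizer G y)) (hx : ∀ b ∈ B, b • x = x) :
    ∃ n ∈ normalizer (B : Set G), n • x = y := by
  haveI := Fact.mk hp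
  have h1 : (MulAut.conj g • B : Subgroup G) ≤ stabilizer G y := by
    rw [conj_smul_le_iff]
    intro b hb
    rw [mem_stabilizer_iff, ← hg, mul_smul, mul_smul, inv_smul_smul, hx b hb]
  obtain ⟨h, hh, hle⟩ := hy.exists_conj_le (IsPGroup.conj_smul hy.isPGroup g) h1
  rw [conj_smul_conj_smul] at hle
  refine ⟨h * g, ?_, by rw [mul_smul, hg]; exact hh⟩
  rw [← conj_smul_eq_self_iff]
  exact eq_of_le_of_card_ge hle (card_conj_smul _ _).ge

theorem Hyp.osz_top {p q : ℕ} (h : Hyp G Ω p q) (a : Ω) : osz (⊤ : Subgroup G) a = 2 * p * q := by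
  rw [osz_eq_ncard, ← h.card, ← Set.ncard_univ]
  congr 1
  ext x
  obtain ⟨g, hg⟩ := h.tr a x
  exact ⟨fun _ => trivial, fun _ => ⟨g, trivial, hg⟩⟩

theorem Hyp.index_stab {p q : ℕ} (h : Hyp G Ω p q) (a : Ω) : (stabilizer G a).index = 2 * p * q := by
  rw [← h.osz_top a, osz, relIndex_top_right]

theorem Hyp.not_dvd_two_q {p q : ℕ} (h : Hyp G Ω p q) : ¬ p ∣ 2 * q := by
  intro hd
  rcases (Nat.Prime.dvd_mul h.hp).mp hd with h1 | h1
  · have := Nat.le_of_dvd two_pos h1; have := h.p5; omega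
  · have := Nat.le_of_dvd h.hq.pos h1; have := h.qp; omega

/-- a point stabiliser of index `p` in the Sylow subgroup is Sylow in the point stabiliser -/
theorem Hyp.sylow_stab [Finite G] {p q : ℕ} (h : Hyp G Ω p q) {P : Subgroup G} (hP : IsSylowIn p P ⊤) {a : Ω}
    (ha : osz P a = p) : IsSylowIn p (P ⊓ stabilizer G a) (stabilizer G a) := by
  refine ⟨inf_le_right, hP.isPGroup.to_le inf_le_left, fun hd => hP.not_dvd ?_⟩
  have e1 := relIndex_mul_index (inf_le_right : P ⊓ stabilizer G a ≤ stabilizer G a)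
  have e2 := relIndex_mul_index (inf_le_left : P ⊓ stabilizer G a ≤ P)
  rw [← osz_eq_relIndex_inf, ha] at e2
  rw [h.index_stab, ← e2] at e1
  rw [relIndex_top_right]
  have e3 : (P ⊓ stabilizer G a).relIndex (stabilizer G a) * (2 * q) = P.index := by
    apply Nat.eq_of_mul_eq_mul_left h.hp.pos
    rw [← e1]; ring
  rw [← e3]
  exact hd.mul_right _

/-- a power of two is not twice an odd prime -/
theorem Hyp.two_q_ne {p q : ℕ} (h : Hyp G Ω p q) (e : ℕ) : 2 * q ≠ 2 ^ e := by
  intro he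
  have h1 : q ∣ 2 ^ e := he ▸ dvd_mul_left q 2
  have := (Nat.prime_dvd_prime_iff_eq h.hq Nat.prime_two).mp (h.hq.dvd_of_dvd_pow h1)
  have := h.q3
  omega

end CL.EQ
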