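import Cfsg.Agent.EQ.Basic

/-!
Project EQ, step C2: Case C2 is impossible.
-/

set_option autoImplicit false

open Cfsg CL.Grp MulAction Subgroup

namespace CL.EQ

universe u v

namespace C2x

variable {G : Type u} {Ω : Type v} [Group G] [MulAction G Ω] {p q : ℕ} {P B : Subgroup G} {Δ : Set Ω} {d : Ω}
  {c c₁ c₂ : G}

theorem cD_conj {m : G} (hm : m ∈ normalizer (B : Set G)) (hc : c ∈ cD B d) : m * c * m⁻¹ ∈ cD B (m • d) :=
  fun x hx => by
    have h1 : m⁻¹ * x * m ∈ B ⊓ stabilizer G d := ⟨by simpa using (mem_normalizer_iff.1 (inv_mem hm) x).1 hx.1, by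
      show (m⁻¹ * x * m) • d = d
      rw [mul_smul, mul_smul, mem_stabilizer_iff.1 hx.2, inv_smul_smul]⟩
    calc x * (m * c * m⁻¹) = m * (m⁻¹ * x * m * c) * m⁻¹ := by group
      _ = _ := by rw [hc _ h1]; group

theorem card_img (c : G) (s : Set Ω) : ((fun a => c • a) '' s).ncard = s.ncard :=
  Set.ncard_image_of_injective s (MulAction.injective c)

variable [Finite G] [Finite Ω] (h2 : C2D.{u, v}) (h : CC G Ω p q P B Δ) (hd : d ∈ Δ) (hL : L2 p B Δ d)
include h hd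

omit [Finite G] [Finite Ω] in
theorem sub : orb B d ⊆ Δ := by
  rintro _ ⟨b, hb, rfl⟩
  exact h.invD b (h.le hb) d hd

omit [Finite G] [Finite Ω] in
theorem card_orb : (orb B d).ncard = p := by rw [← osz_eq_ncard, h.oszD d hd]

omit [Finite G] [Finite Ω] in
theorem img_ne (ho : c • d ∉ Δ) : (fun a => c • a) '' orb B d ≠ orb B d := fun e =>
  ho (sub h hd (e ▸ ⟨d, self_mem_orb B d, rfl⟩))

include h2 hL

theorem miss (hc : c ∈ cD B d) (ho : c • d ∉ Δ) :
    ∃ m ∈ orb B d, ∀ e ∈ orb B d, e ≠ m → e ∈ (fun a => c • a) '' orb B d := by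
  have hg : c • d ∉ orb B d := fun e => ho (sub h hd e)
  have c1 := (h2 G Ω p q P B Δ h d hd hL c hc (img_ne h hd ho)).1
  have c2 : (insert (c • d) (orb B d)).ncard = p + 1 := by rw [Set.ncard_insert_of_notMem hg, card_orb h hd]
  have e1 : insert (c • d) (orb B d) = orb B d ∪ (fun a => c • a) '' orb B d := Set.eq_of_subset_of_ncard_le
    (Set.insert_subset (.inr ⟨d, self_mem_orb B d, rfl⟩) Set.subset_union_left) (by rw [c1, c2])
  obtain ⟨m, hm, hm'⟩ := Set.not_subset.1 fun e : orb B d ⊆ (fun a => c • a) '' orb B d =>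
    img_ne h hd ho (Set.eq_of_subset_of_ncard_le e (card_img c _).le).symm
  have e2 : (fun a => c • a) '' orb B d = insert (c • d) (orb B d) \ {m} := Set.eq_of_subset_of_ncard_le
    (fun x hx => ⟨e1 ▸ .inr hx, fun e => hm' (e ▸ hx)⟩) (by
      rw [Set.ncard_sdiff_singleton_of_mem (.inr hm), c2, card_img, card_orb h hd]; omega)
  exact ⟨m, hm, fun e he hne => e2 ▸ ⟨.inr he, hne⟩⟩

theorem two (k1 : c₁ ∈ cD B d) (k2 : c₂ ∈ cD B d) (o1 : c₁ • d ∉ Δ) (o2 : c₂ • d ∉ Δ)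
    (hs : orb B d ⊆ (fun a => c₁ • a) '' orb B d ∪ (fun a => c₂ • a) '' orb B d) : c₁ • d = c₂ • d := by
  by_contra hn
  have c1 : (orb B d ∪ (fun a => (c₁⁻¹ * c₂) • a) '' orb B d).ncard ≤ p + 1 := by
    by_cases e : (fun a => (c₁⁻¹ * c₂) • a) '' orb B d = orb B d
    · rw [e, Set.union_self, card_orb h hd]; omega
    · exact (h2 G Ω p q P B Δ h d hd hL _ (mul_mem (inv_mem k1) k2) e).1.le
  rw [← card_img c₁, Set.image_union, Set.image_image] at c1
  simp only [smul_smul, mul_inv_cancel_left] at c1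
  have c2 := Set.ncard_le_ncard (Set.insert_subset (.inl ⟨d, self_mem_orb B d, rfl⟩)
    (Set.insert_subset (.inr ⟨d, self_mem_orb B d, rfl⟩) hs))
  rw [Set.ncard_insert_of_notMem (fun e => e.elim hn fun e => o1 (sub h hd e)),
    Set.ncard_insert_of_notMem fun e => o2 (sub h hd e), card_orb h hd] at c2
  omega

theorem uniq (k1 : c₁ ∈ cD B d) (k2 : c₂ ∈ cD B d) (o1 : c₁ • d ∉ Δ) (o2 : c₂ • d ∉ Δ) : c₁ • d = c₂ • d := by
  obtain ⟨m₁, -, h1⟩ := miss h2 h hd hL k1 o1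
  obtain ⟨m₂, hm, h3⟩ := miss h2 h hd hL k2 o2
  obtain ⟨b, hb, hne⟩ : ∃ b ∈ B, b • m₂ ≠ m₁ := by
    by_contra hn
    push Not at hn
    have := osz_eq_one_iff.2 fun b hb => (hn b hb).trans (by simpa using (hn 1 (one_mem _)).symm)
    rw [h.oszD _ (sub h hd hm)] at this
    exact h.hp.one_lt.ne' this
  have e : (b * c₂) • d = c₂ • d := by rw [mul_smul, (h.stG b (h.le hb) _ o2).2 hb]
  refine (two h2 h hd hL k1 (mul_mem (hL.syl.le hb) k2) o1 (e ▸ o2) fun x hx => ?_).trans e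
  by_cases e1 : x = m₁
  · obtain ⟨w, hw, e2⟩ := h3 _ (smul_mem_orb (inv_mem hb) hx) fun e => hne (by rw [← e, smul_inv_smul, e1])
    exact .inr ⟨w, hw, by simp only [mul_smul] at e2 ⊢; rw [e2, smul_inv_smul]⟩
  · exact .inl (h1 x hx e1)

end C2x

open C2x in
theorem c2 (h1 : C2A.{u, v}) (h2 : C2D.{u, v}) : C2.{u, v} := by
  intro G Ω _ _ _ _ p q P B Δ h hB
  have hL := h1 G Ω p q P B Δ h hB
  obtain ⟨d, hd⟩ : Δ.Nonempty := Set.nonempty_of_ncard_ne_zero (by rw [h.cardD]; exact pow_ne_zero 2 h.hp.ne_zero)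
  obtain ⟨c, hc, ho⟩ := (hL d hd).out
  obtain ⟨-, e, he⟩ := h2 G Ω p q P B Δ h d hd (hL d hd) c hc (img_ne h hd ho)
  have key : ∀ m : G, (m * c * m⁻¹) • m • d = m • c • d := fun m => by simp [mul_smul]
  have hs : Δᶜ ⊆ orb P (c • d) := fun g hg => by
    obtain ⟨n, hn, rfl⟩ := h.witt _ ho g hg
    have hnd := (h.nD n hn d).2 hd
    obtain ⟨x, hx, e⟩ := h.trD d hd _ hnd
    have k2 := cD_conj (h.nrm hx) hc
    have o2 : (x * c * x⁻¹) • x • d ∉ Δ := by rw [key, h.nD x (h.nrm hx)]; exact ho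
    have e2 := key x
    rw [e] at k2 o2 e2
    exact ⟨x, hx, by rw [← e2, uniq h2 h hnd (hL _ hnd) k2 (cD_conj hn hc) o2 (by rwa [key]), key]⟩
  have c1 := Set.ncard_le_ncard hs
  rw [← osz_eq_ncard, h.oszG _ ho] at c1
  have c2 : 0 < Δᶜ.ncard := (Set.ncard_pos (Set.toFinite _)).2 ⟨_, ho⟩
  have c3 := h.cardG
  have c4 : p < 2 * q := lt_of_mul_lt_mul_left (a := p) (by nlinarith) p.zero_le
  have c5 : 2 * q ≤ p + 1 := le_of_mul_le_mul_left (a := p) (by nlinarith) h.hp.pos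
  exact h.toHyp.two_q_ne e (by omega)

end CL.EQ
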