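import Cfsg.Agent.EQ.Basic
import Cfsg.Agent.Even.Amb

/-! Project EQ: the local facts of Case C2. -/

set_option autoImplicit false

open Cfsg CL.Grp CL.Even MulAction Subgroup
open scoped Pointwise

namespace CL.EQ

universe u v

namespace C2Ax

variable {G : Type u} {Ω : Type v} [Group G] [Finite G] [MulAction G Ω] {p q : ℕ} {P B X : Subgroup G} {Δ : Set Ω}
  {a d : Ω} {x : G} (h : CC G Ω p q P B Δ)
include h

theorem idx : B.relIndex P = p := by
  have := card_mul_index (B.subgroupOf P)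
  rw [card_subgroupOf_of_le h.le, h.cardP, mul_comm] at this
  exact Nat.eq_of_mul_eq_mul_right Nat.card_pos this

theorem ex : ∃ t ∈ P, t ∉ B := SetLike.not_le_iff_exists.1 fun e => h.hp.ne_one ((idx h).symm.trans (relIndex_eq_one.2 e))

theorem gen (h1 : B ≤ X) (hx : x ∈ P) (hB : x ∉ B) (hX : x ∈ X) : P ≤ X := by
  have e := relIndex_mul_relIndex B (P ⊓ X) P (le_inf h.le h1) inf_le_left
  rw [idx h] at e
  rcases Nat.prime_mul_iff.1 (e ▸ h.hp) with k | k
  · exact (relIndex_eq_one.1 k.2).trans inf_le_right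
  · exact (hB (relIndex_eq_one.1 k.2 ⟨hx, hX⟩)).elim

omit [Finite G] in
theorem one_of (hx : x ∈ B) (k : ∀ a ∈ Δ, x • a = a) : x = 1 := h.faith x fun a => by
  by_cases ha : a ∈ Δ
  exacts [k a ha, (h.fixB a).2 ha x hx]

omit [Finite G] in
theorem le_cD : B ≤ cD B d := fun y hy x hx => h.ea.1 x hx.1 y hy

theorem key (ha : a ∈ Δ) (hx : x ∈ P) (hB : x ∉ B) (hn : x ∈ 𝒩(B ⊓ stabilizer G a)) : B ⊓ stabilizer G a = ⊥ :=
  eq_bot_iff.2 fun y hy => one_of h hy.1 fun b hb => by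
    obtain ⟨g, hg, rfl⟩ := h.trD a ha b hb
    have : (g⁻¹ * y * g) • a = a := (conj_mem' (gen h ((le_cD h).trans (cent_le_norm _)) hx hB hn hg) hy).2
    rwa [mul_smul, mul_smul, inv_smul_eq_iff] at this

theorem key' {y : G} (ha : a ∈ Δ) (hx : x ∈ P) (hB : x ∉ B) (hy : y ∈ B) (e : y • a = a) (c : x * y = y * x) : y = 1 :=
  one_of h hy fun b hb => by
    obtain ⟨g, hg, rfl⟩ := h.trD a ha b hb
    rw [← mul_smul, ← mem_centralizer_singleton_iff.1 (gen h (fun z hz => mem_centralizer_singleton_iff.2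
      (h.ea.1 z hz y hy)) hx hB (mem_centralizer_singleton_iff.2 c) hg), mul_smul, e]

omit [Finite G] in
theorem cardD (ha : a ∈ Δ) : p * Nat.card (B ⊓ stabilizer G a : Subgroup G) = Nat.card B := by
  rw [← osz_mul_card B a, h.oszD a ha]

omit h in
theorem nrm {k : G} (e : MulAut.conj k • B ≤ B) : k ∈ 𝒩(B) :=
  (conj_smul_eq_self_iff k B).1 (eq_of_le_of_card_ge e (card_conj_smul _ _).ge)

end C2Ax

open C2Ax

theorem c2a : C2A.{u, v} := by
  intro G Ω _ _ _ _ p q P B Δ h hp d hd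
  have := Fact.mk h.hp
  have D0 : B ⊓ stabilizer G d ≠ ⊥ := fun e => by
    have := cardD h hd
    rw [e, card_bot] at this
    omega
  have syl : IsSylowIn p B (cD B d) := isSylowIn_of_maximal (le_cD h) h.ea.isPGroup fun U hU h1 h2 =>
    le_antisymm (fun u hu => by_contra fun uB => D0 (eq_bot_iff.2 fun y hy => by
      obtain ⟨k, -, hk⟩ := h.syl.exists_conj_le hU le_top
      have kn := nrm (h.w _ ((pointwise_smul_le_pointwise_smul_iff.2 h1).trans hk) (h.ea.conj k)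
        (by rw [card_conj_smul]; exact Nat.le_mul_of_pos_left _ h.hp.pos))
      refine conj_eq_one_iff.1 (key' h ((h.nD k kn d).2 hd) (hk (conj_mem_conj_smul k hu))
        (mt (mem_normalizer_iff.1 kn u).2 uB) (conj_mem kn hy.1) ?_ (by rw [conj_mul, conj_mul, h2 hu y hy]))
      rw [mul_smul, mul_smul, inv_smul_smul, show y • d = d from hy.2])) h1
  refine ⟨syl, fun a ha => ⟨fun k => ?_, fun k x hx e => h.ea.fix_orb hx e k⟩, ?_⟩
  · obtain ⟨x, hx, rfl⟩ := h.trD d hd a ha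
    have e : B ⊓ stabilizer G d = B ⊓ stabilizer G (x • d) := eq_of_le_of_card_ge (fun y hy => ⟨hy.1, k y hy.1 hy.2⟩)
      (Nat.eq_of_mul_eq_mul_left h.hp.pos ((cardD h ha).trans (cardD h hd).symm)).le
    refine ⟨x, by_contra fun xB => D0 (key h hd hx xB (nrm ((conj_smul_le_iff _ _ _).2 fun y hy => e.ge ⟨conj_mem (h.nrm hx) hy.1, ?_⟩))), rfl⟩
    change (x * y * x⁻¹) • x • d = x • d
    rw [mul_smul, mul_smul, inv_smul_smul, show y • d = d from hy.2]
  obtain ⟨c, hc⟩ := h.neG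
  obtain ⟨g, rfl⟩ := h.tr c d
  have s := (h.sylG c hc).conj_smul g
  rw [conj_smul_eq_map g (stabilizer G c), ← stabilizer_smul_eq_stabilizer_map_conj] at s
  obtain ⟨k, hk, e⟩ := s.exists_conj_le (h.ea.isPGroup.to_le (inf_le_left (b := stabilizer G (g • c)))) inf_le_right
  rw [pointwise_smul_subset_iff, ← map_inv, conj_smul_conj_smul] at e
  obtain ⟨m, hm, e'⟩ := syl.exists_conj_le (h.ea.conj (k⁻¹ * g)).isPGroup fun y hy x hx => (h.ea.conj _).1 x (e hx) y hy
  rw [conj_smul_conj_smul] at e'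
  refine ⟨m, hm, fun k => hc ((h.nD _ (nrm e') c).1 ?_)⟩
  rwa [mul_smul, mul_smul, show _ • g • c = g • c from inv_mem hk]

theorem c2b : C2B.{u, v} := by
  intro G Ω _ _ _ _ p q P B Δ h d hd l x hx xp a ha na
  have := Fact.mk h.hp
  have n1 : ¬ ∀ y ∈ B ⊓ stabilizer G d, y • a = a := fun k => na ((l.fix a ha).1 fun y h1 h2 => k y ⟨h1, h2⟩)
  have fx : ∀ b ∈ orb (B ⊓ stabilizer G d ⊔ zpowers x) a, ¬ ∀ y ∈ B ⊓ stabilizer G d, y • b = b := by
    rintro _ ⟨c, hc, rfl⟩ k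
    refine n1 fun y hy => smul_left_cancel c ?_
    rw [← mul_smul, ← sup_le (inf_le_left.trans (le_cD h)) (zpowers_le.2 hx) hc y hy, mul_smul, k y hy]
  have e1 : osz (B ⊓ stabilizer G d) a = p := ((Nat.dvd_prime h.hp).1 (h.oszD a ha ▸ osz_dvd_of_normalized inf_le_left
    ((le_cD h).trans (cent_le_norm _)) a)).resolve_left (mt osz_eq_one_iff.1 n1)
  obtain ⟨k, hk⟩ := exists_osz_eq_pow h.hp (isPGroup_sup' (h.ea.isPGroup.to_le (inf_le_left (b := stabilizer G d)))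
    (isPGroup_zpowers (k := 1) (by rwa [pow_one])) (zpowers_le.2 (cent_le_norm _ hx))) a
  have e2 : p ^ k < p ^ 2 := by
    rw [← hk, ← h.cardD, osz_eq_ncard]
    exact Set.ncard_lt_ncard ⟨fun b hb => by_contra fun nb => fx b hb fun y hy => (h.fixB b).2 nb y hy.1,
      fun k => fx d (k hd) fun y hy => hy.2⟩
  have e3 : p ^ k ≤ p ^ 1 := Nat.pow_le_pow_right h.hp.pos (by have := (Nat.pow_lt_pow_iff_right h.hp.one_lt).1 e2; omega)
  obtain ⟨y, hy, e⟩ := (orb_eq_of_osz_le le_sup_left (by rw [hk, e1]; exact e3.trans_eq (pow_one p))).ge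
    (⟨x, mem_sup_right (mem_zpowers x), rfl⟩ : x • a ∈ orb (B ⊓ stabilizer G d ⊔ zpowers x) a)
  exact ⟨y, hy.1, hy.2, e.symm⟩

theorem c2c : C2C.{u, v} := by
  intro G Ω _ _ _ _ p q P B Δ h d hd w hw k
  have := Fact.mk h.hp
  by_cases e : w • d = d
  · refine one_of h hw fun a ha => ?_
    by_cases hb : a ∈ orb B d
    exacts [h.ea.fix_orb hw e hb, k a ha hb]
  have e1 : osz (zpowers w) d = p := ((Nat.dvd_prime h.hp).1 ((osz_dvd_card _ d).trans (by
    rw [Nat.card_zpowers]; exact orderOf_dvd_of_pow_eq_one (h.ea.2 w hw)))).resolve_left fun k =>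
      e (osz_eq_one_iff.1 k w (mem_zpowers w))
  have e2 := orb_eq_of_osz_le (zpowers_le.2 hw) ((h.oszD d hd).trans e1.symm).le
  obtain ⟨t, ht, tB⟩ := ex h
  have := normal_subgroupOf_of_le_normalizer' h.nrm
  have tp : t ^ p ∈ B := idx h ▸ pow_index_mem (B.subgroupOf P) ⟨t, ht⟩
  obtain ⟨y, hy, ey⟩ := mem_orb_symm (e2.ge (⟨_, tp, rfl⟩ : t ^ p • d ∈ orb B d))
  have yB := zpowers_le.2 hw hy
  have sP := P.mul_mem (h.le yB) ht
  have sB : y * t ∉ B := mt (mul_mem_cancel_left yB).1 tB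
  have it : ∀ i < p, (y * t) ^ i • d = t ^ i • d := fun i hi => by
    induction i with
    | zero => rw [pow_zero, pow_zero]
    | succ i ih =>
      rw [pow_succ', mul_smul, mul_smul, ih (by omega), ← mul_smul t, ← pow_succ']
      refine zpowers_le.2 (show w ∈ stabilizer G _ from k _ (h.invD _ (P.pow_mem ht _) d hd) fun ⟨b, hb, eb⟩ => tB ?_) hy
      obtain ⟨m, hm⟩ := IsPGroup.iff_orderOf.1 h.syl.isPGroup ⟨t, ht⟩
      rw [orderOf_mk] at hm
      refine mem_of_pow_mem_of_coprime (n := i + 1) (hm ▸ ((Nat.coprime_of_lt_prime (by omega) hi h.hp).pow_left m))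
        ((mul_mem_cancel_left (B.inv_mem hb)).1 (h.stD _ (P.mul_mem (P.inv_mem (h.le hb)) (P.pow_mem ht _)) d hd ?_))
      rw [mul_smul, ← eb, inv_smul_smul]
  have e3 : (y * t) ^ p • d = d := by
    obtain ⟨j, rfl⟩ := Nat.exists_eq_succ_of_ne_zero h.hp.ne_zero
    rwa [pow_succ', mul_smul, mul_smul, it j (by omega), ← mul_smul t, ← pow_succ']
  exact (h.pw _ sP sB (key' h hd sP sB (h.stD _ (P.pow_mem sP p) d hd e3) e3 (Commute.self_pow _ p))).elim

end CL.EQ
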