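import Cfsg.Agent.EQ.Basic

/-! Project EQ: the union of `β` and a translate has `p + 1` points. -/

set_option autoImplicit false
set_option linter.style.haveILetI false

open Cfsg CL.Grp MulAction Subgroup
open scoped Pointwise

namespace CL.EQ

universe u v

namespace C2Dx

variable {G : Type u} {Ω : Type v} [Group G] [MulAction G Ω]

/-- a group generated by elements of order dividing `p` has `p`-power index over its derived group -/
theorem card_eq_pow_mul [Finite G] {p : ℕ} (hp : p.Prime) (S : Set G) (hS : ∀ s ∈ S, s ^ p = 1) :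
    ∃ k : ℕ, Nat.card (closure S) = p ^ k * Nat.card (⁅closure S, closure S⁆ : Subgroup G) := by
  haveI := Fact.mk hp
  set Y := closure S with hY
  have key : ∀ y (hy : y ∈ Y), (Abelianization.of (⟨y, hy⟩ : Y)) ^ p = 1 := by
    intro y hy
    induction hy using closure_induction with
    | mem x hx =>
      rw [← map_pow]
      have : (⟨x, subset_closure hx⟩ : Y) ^ p = 1 := Subtype.ext (by simpa using hS x hx)
      rw [this, map_one]
    | one =>
      have : (⟨1, Y.one_mem⟩ : Y) = 1 := rfl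
      rw [this, map_one, one_pow]
    | mul x y hx hy ihx ihy =>
      have : (⟨x * y, Y.mul_mem hx hy⟩ : Y) = ⟨x, hx⟩ * ⟨y, hy⟩ := rfl
      rw [this, map_mul, mul_pow, ihx, ihy, one_mul]
    | inv x hx ihx =>
      have : (⟨x⁻¹, Y.inv_mem hx⟩ : Y) = (⟨x, hx⟩ : Y)⁻¹ := rfl
      rw [this, map_inv, inv_pow, ihx, inv_one]
  have hP : IsPGroup p (Y ⧸ commutator Y) := by
    intro z
    obtain ⟨⟨y, hy⟩, rfl⟩ := QuotientGroup.mk_surjective z
    refine ⟨1, ?_⟩
    rw [pow_one]
    exact key y hy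
  obtain ⟨k, hk⟩ := IsPGroup.iff_card.mp hP
  refine ⟨k, ?_⟩
  rw [← Subgroup.map_subtype_commutator, card_map_of_injective Y.subtype_injective, ← hk]
  exact card_eq_card_quotient_mul_card_subgroup _

/-- an orbit of length prime to `p` is an orbit of the derived group -/
theorem orb_comm [Finite G] [Finite Ω] {p : ℕ} (hp : p.Prime) (S : Set G) (hS : ∀ s ∈ S, s ^ p = 1)
    (d : Ω) (hd : ¬ p ∣ osz (closure S) d) :
    orb (⁅closure S, closure S⁆ : Subgroup G) d = orb (closure S) d := by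
  obtain ⟨k, hk⟩ := card_eq_pow_mul hp S hS
  set Y := closure S with hY
  have hKY : (⁅Y, Y⁆ : Subgroup G) ≤ Y := by
    simpa using (commutator_le_sup Y Y)
  set K : Subgroup G := ⁅Y, Y⁆ with hK
  apply orb_eq_of_osz_le hKY
  have e1 := osz_mul_card Y d
  have e2 := osz_mul_card K d
  obtain ⟨m, hm⟩ : Nat.card (K ⊓ stabilizer G d : Subgroup G) ∣ Nat.card (Y ⊓ stabilizer G d : Subgroup G) :=
    card_dvd_of_le (inf_le_inf_right _ hKY)
  have hpos : 0 < Nat.card (K ⊓ stabilizer G d : Subgroup G) := Nat.card_pos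
  have e3 : osz Y d * m = p ^ k * osz K d := by
    apply Nat.eq_of_mul_eq_mul_right hpos
    rw [mul_assoc (p ^ k), e2, ← hk, ← e1, hm]; ring
  have hc : Nat.Coprime (osz Y d) (p ^ k) :=
    Nat.Coprime.pow_right _ ((Nat.Prime.coprime_iff_not_dvd hp).mpr hd).symm
  exact Nat.le_of_dvd (osz_pos K d) (hc.dvd_of_dvd_mul_left ⟨m, e3.symm⟩)

/-- a subset mapped into itself by the generators is mapped into itself by the group -/
theorem closure_mapsTo [Finite G] (S : Set G) (O : Set Ω) (hS : ∀ s ∈ S, ∀ a ∈ O, s • a ∈ O) :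
    ∀ y ∈ closure S, ∀ a ∈ O, y • a ∈ O := by
  intro y hy
  induction hy using closure_induction with
  | mem x hx => exact hS x hx
  | one => intro a ha; rwa [one_smul]
  | mul x y _ _ ihx ihy => intro a ha; rw [mul_smul]; exact ihx _ (ihy _ ha)
  | inv x _ ihx =>
    have hn : ∀ n : ℕ, ∀ a ∈ O, x ^ n • a ∈ O := by
      intro n
      induction n with
      | zero => intro a ha; rwa [pow_zero, one_smul]
      | succ n ih => intro a ha; rw [pow_succ, mul_smul]; exact ih _ (ihx _ ha)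
    obtain ⟨n, hn'⟩ := (mem_powers_iff_mem_zpowers (x := x) (y := x⁻¹)).mpr
      ((zpowers x).inv_mem (mem_zpowers x))
    have hn'' : x ^ n = x⁻¹ := hn'
    rw [← hn'']
    exact hn n

/-- the fixed points of the stabiliser of `d` in `B` -/
def Fx (B : Subgroup G) (d a : Ω) : Prop := ∀ x ∈ B, x • d = d → x • a = a

theorem cD_comm {B : Subgroup G} {d : Ω} {x y : G} (hx : x ∈ cD B d) (hy : y ∈ B) (hd : y • d = d) :
    y * x = x * y :=
  mem_centralizer_iff.mp hx y ⟨hy, hd⟩

theorem Fx.smul {B : Subgroup G} {d a : Ω} {x : G} (hx : x ∈ cD B d) (ha : Fx B d a) : Fx B d (x • a) := by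
  intro y hy hd
  rw [← mul_smul, cD_comm hx hy hd, mul_smul, ha y hy hd]

theorem not_Fx_smul {B : Subgroup G} {d a : Ω} {x : G} (hx : x ∈ cD B d) (ha : ¬ Fx B d a) :
    ¬ Fx B d (x • a) := fun h => ha (by simpa using h.smul ((cD B d).inv_mem hx))

/-- the elements of the centraliser acting off the fixed points like elements of the stabiliser -/
def EE (B : Subgroup G) (d : Ω) : Subgroup G where
  carrier := {x | x ∈ cD B d ∧ ∀ a, ¬ Fx B d a → ∃ y ∈ B, y • d = d ∧ x • a = y • a}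
  one_mem' := ⟨(cD B d).one_mem, fun _ _ => ⟨1, B.one_mem, one_smul _ _, rfl⟩⟩
  mul_mem' := by
    rintro x x' ⟨hx, hx1⟩ ⟨hx', hx1'⟩
    refine ⟨(cD B d).mul_mem hx hx', fun a ha => ?_⟩
    obtain ⟨y, hy, hyd, e⟩ := hx1 a ha
    obtain ⟨y', hy', hyd', e'⟩ := hx1' a ha
    refine ⟨y' * y, B.mul_mem hy' hy, by rw [mul_smul, hyd, hyd'], ?_⟩
    rw [mul_smul, e', ← mul_smul, ← cD_comm hx hy' hyd', mul_smul, e, mul_smul]
  inv_mem' := by
    rintro x ⟨hx, hx1⟩
    refine ⟨(cD B d).inv_mem hx, fun a ha => ?_⟩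
    obtain ⟨y, hy, hyd, e⟩ := hx1 _ (not_Fx_smul ((cD B d).inv_mem hx) ha)
    refine ⟨y⁻¹, B.inv_mem hy, inv_smul_eq_iff.mpr hyd.symm, ?_⟩
    rw [smul_inv_smul] at e
    rw [eq_inv_smul_iff]
    exact e.symm

theorem EE_le (B : Subgroup G) (d : Ω) : EE B d ≤ cD B d := fun _ h => h.1

theorem EE_comm {p : ℕ} {B : Subgroup G} (hB : EA p B) {d a : Ω} {x x' : G} (hx : x ∈ EE B d)
    (hx' : x' ∈ EE B d) (ha : ¬ Fx B d a) : (x * x') • a = (x' * x) • a := by
  obtain ⟨y, hy, hyd, e⟩ := hx.2 a ha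
  obtain ⟨y', hy', hyd', e'⟩ := hx'.2 a ha
  have e1 : (x * x') • a = (y' * y) • a := by
    rw [mul_smul, e', ← mul_smul, ← cD_comm hx.1 hy' hyd', mul_smul, e, mul_smul]
  have e2 : (x' * x) • a = (y * y') • a := by
    rw [mul_smul, e, ← mul_smul, ← cD_comm hx'.1 hy hyd, mul_smul, e', mul_smul]
  rw [e1, e2, hB.1 y hy y' hy']

end C2Dx

open C2Dx in
theorem c2d (h1 : LS.{u,v}) (h2 : C2B.{u,v}) (h3 : C2C.{u,v}) : C2D.{u,v} := by
  intro G Ω _ _ _ _ p q P B Δ hC d hd hL c hc hne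
  have hp : p.Prime := hC.hp
  haveI := Fact.mk hp
  have hea : EA p B := hC.ea
  set β : Set Ω := orb B d with hβ
  set β' : Set Ω := (fun a => c • a) '' β with hβ'
  have hβΔ : ∀ a ∈ β, a ∈ Δ := by
    rintro a ⟨x, hx, rfl⟩
    exact hC.invD x (hC.le hx) d hd
  have hΓ : ∀ a, a ∉ Δ → ∀ x ∈ B, x • a = a := fun a ha => (hC.fixB a).mpr ha
  have hF : ∀ a, Fx B d a ↔ (a ∉ Δ ∨ a ∈ β) := by
    intro a
    constructor
    · intro h
      by_cases ha : a ∈ Δ
      · exact Or.inr ((hL.fix a ha).mp h)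
      · exact Or.inl ha
    · rintro (h | h)
      · exact fun x hx _ => hΓ a h x hx
      · exact (hL.fix a (hβΔ a h)).mpr h
  have hW : ∀ a, ¬ Fx B d a → a ∈ Δ ∧ a ∉ β := by
    intro a ha
    rw [hF] at ha
    push Not at ha
    exact ha
  have hW' : ∀ a, a ∈ Δ → a ∉ β → ¬ Fx B d a := by
    intro a h1 h2
    rw [hF]
    tauto
  have hBC : B ≤ cD B d := hL.syl.le
  have hE : ∀ x ∈ cD B d, x ^ p = 1 → x ∈ EE B d := fun x hx hxp =>
    ⟨hx, fun a ha => h2 G Ω p q P B Δ hC d hd hL x hx hxp a (hW a ha).1 (hW a ha).2⟩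
  have hBE : B ≤ EE B d := fun x hx => hE x (hBC hx) (hea.2 x hx)
  have hoszd : osz B d = p := hC.oszD d hd
  have hcβ : β.ncard = p := by rw [hβ, ← osz_eq_ncard, hoszd]
  have hcβ' : β'.ncard = p := by
    rw [hβ', Set.ncard_image_of_injective _ (MulAction.injective c), hcβ]
  obtain ⟨b, hb, hbd⟩ : ∃ b ∈ B, b • d ≠ d := by
    by_contra hn
    push Not at hn
    have := osz_eq_one_iff.mpr hn
    rw [hoszd] at this
    exact hp.one_lt.ne' this
  have hbp : b ^ p = 1 := hea.2 b hb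
  have hbβ : ∀ a ∈ β, b • a ≠ a := fun a ha h => hbd (hea.fix_orb hb h (mem_orb_symm ha))
  have hxβ : ∀ x ∈ B, ∀ a ∈ β, x • a ∈ β := fun x hx a ha => smul_mem_orb hx ha
  have hzb : orb (zpowers b) d = β := by
    apply orb_eq_of_osz_le ((zpowers_le).mpr hb)
    have hdv : osz (zpowers b) d ∣ p := by
      refine (osz_dvd_card _ _).trans ?_
      rw [Nat.card_zpowers]
      exact orderOf_dvd_of_pow_eq_one hbp
    rcases (Nat.dvd_prime hp).mp hdv with h | h
    · exact absurd (osz_eq_one_iff.mp h b (mem_zpowers b)) hbd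
    · rw [h, hoszd]
  obtain ⟨b', hb'⟩ : ∃ b' : G, b' = c * b * c⁻¹ := ⟨_, rfl⟩
  have hb'C : b' ∈ cD B d := hb' ▸
    (cD B d).mul_mem ((cD B d).mul_mem hc (hBC hb)) ((cD B d).inv_mem hc)
  have hb'p : b' ^ p = 1 := by rw [hb', conj_pow, hbp]; group
  have hb'E : b' ∈ EE B d := hE b' hb'C hb'p
  have hβF : ∀ a ∈ β, Fx B d a := fun a ha => (hF a).mpr (Or.inr ha)
  have hβ'F : ∀ a ∈ β', Fx B d a := by
    rintro _ ⟨a, ha, rfl⟩
    exact (hβF a ha).smul hc
  have hb'β' : ∀ a ∈ β', b' • a ∈ β' := by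
    rintro _ ⟨a, ha, rfl⟩
    exact ⟨b • a, hxβ b hb a ha, by simp [hb', mul_smul]⟩
  have hb'fix : ∀ a, Fx B d a → a ∉ β' → b' • a = a := by
    intro a ha hn
    have h1 : Fx B d (c⁻¹ • a) := ha.smul ((cD B d).inv_mem hc)
    have h2 : c⁻¹ • a ∉ β := fun h => hn ⟨_, h, by simp⟩
    have h3 : c⁻¹ • a ∉ Δ := ((hF _).mp h1).resolve_right h2
    rw [hb', mul_smul, mul_smul, hΓ _ h3 b hb, smul_inv_smul]
  have hcd : c • d ∈ β' := ⟨d, self_mem_orb B d, rfl⟩
  -- (1)
  obtain ⟨x0, hx0, hx0'⟩ : ∃ x0, x0 ∈ β ∧ x0 ∈ β' := by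
    by_contra hn
    push Not at hn
    have hβ'Γ : ∀ a ∈ β', a ∉ Δ := fun a ha =>
      ((hF a).mp (hβ'F a ha)).resolve_right (fun h => hn a h ha)
    have hcomm : ∀ x ∈ B, x * b' = b' * x := by
      intro x hx
      have : ∀ a : Ω, (x * b') • a = (b' * x) • a := by
        intro a
        by_cases ha : Fx B d a
        · rcases (hF a).mp ha with h | h
          · have : b' • a ∉ Δ := by
              by_cases h' : a ∈ β'
              · exact hβ'Γ _ (hb'β' a h')
              · rw [hb'fix a ha h']; exact h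
            rw [mul_smul, mul_smul, hΓ _ this x hx, hΓ a h x hx]
          · have h' := hxβ x hx a h
            rw [mul_smul, mul_smul, hb'fix a ha (hn a h), hb'fix _ (hβF _ h') (hn _ h')]
        · exact EE_comm hea (hBE hx) hb'E ha
      have h0 := hC.faith ((b' * x)⁻¹ * (x * b')) fun a => by rw [mul_smul, this a, inv_smul_smul]
      exact (inv_mul_eq_one.mp h0).symm
    have hz : IsPGroup p (zpowers b') := by
      rintro ⟨z, hz⟩
      obtain ⟨k, hk⟩ := mem_zpowers_iff.mp hz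
      refine ⟨1, Subtype.ext ?_⟩
      change z ^ (p ^ 1) = 1
      rw [pow_one, ← hk, ← zpow_natCast, ← zpow_mul, mul_comm, zpow_mul, zpow_natCast, hb'p, one_zpow]
    have hnm : zpowers b' ≤ normalizer (B : Set G) := by
      rw [zpowers_le]
      apply centralizer_le_normalizer
      exact mem_centralizer_iff.mpr hcomm
    have hsup : IsPGroup p (B ⊔ zpowers b' : Subgroup G) :=
      IsPGroup.to_sup_of_normal_left' hea.isPGroup hz hnm
    have heq := hL.syl.eq_of_le hsup le_sup_left (sup_le hBC ((zpowers_le).mpr hb'C))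
    have hb'B : b' ∈ B := heq ▸ (le_sup_right : zpowers b' ≤ B ⊔ zpowers b') (mem_zpowers b')
    have := hΓ _ (hβ'Γ _ hcd) b' hb'B
    rw [hb', mul_smul, mul_smul, inv_smul_smul, smul_left_cancel_iff] at this
    exact hbd this
  set O : Set Ω := β ∪ β' with hO
  have hO2 : O.ncard < 2 * p := by
    have e : O.ncard + (β ∩ β').ncard = β.ncard + β'.ncard := Set.ncard_union_add_ncard_inter β β'
    have : 0 < (β ∩ β').ncard := (Set.ncard_pos (Set.toFinite _)).mpr ⟨x0, hx0, hx0'⟩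
    rw [hcβ, hcβ'] at e
    omega
  have hO1 : p < O.ncard := by
    rw [← hcβ]
    apply Set.ncard_lt_ncard _ (Set.toFinite _)
    refine ⟨Set.subset_union_left, fun h => hne ?_⟩
    exact Set.eq_of_subset_of_ncard_le (Set.subset_union_right.trans h) (by rw [hcβ, hcβ'])
      (Set.toFinite _)
  -- (2)
  have hOF : ∀ a ∈ O, Fx B d a := by
    rintro a (h | h)
    · exact hβF a h
    · exact hβ'F a h
  set Y : Subgroup G := closure ({b, b'} : Set G) with hY
  have hbY : b ∈ Y := subset_closure (by simp)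
  have hb'Y : b' ∈ Y := subset_closure (by simp)
  have hYE : Y ≤ EE B d := by
    rw [hY, closure_le]
    rintro x (rfl | rfl)
    · exact hBE hb
    · exact hb'E
  have hYO : ∀ y ∈ Y, ∀ a ∈ O, y • a ∈ O := by
    apply closure_mapsTo
    rintro x (rfl | rfl) a ha
    · by_cases h : a ∈ β
      · exact Or.inl (hxβ _ hb a h)
      · rw [hΓ a (((hF a).mp (hOF a ha)).resolve_right h) _ hb]; exact ha
    · by_cases h : a ∈ β'
      · exact Or.inr (hb'β' a h)
      · rw [hb'fix a (hOF a ha) h]; exact ha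
  have hYd : orb Y d = O := by
    apply Set.Subset.antisymm
    · rintro _ ⟨y, hy, rfl⟩
      exact hYO y hy d (Or.inl (self_mem_orb B d))
    · have s1 : β ⊆ orb Y d := hzb ▸ orb_mono ((zpowers_le).mpr hbY) d
      have s2 : β' ⊆ orb Y (c • d) := by
        rintro _ ⟨a, ha, rfl⟩
        rw [← hzb] at ha
        obtain ⟨_, ⟨k, rfl⟩, rfl⟩ := ha
        refine ⟨b' ^ k, Y.zpow_mem hb'Y k, ?_⟩
        rw [hb', conj_zpow]
        simp [mul_smul]
      have s3 : orb Y (c • d) = orb Y d := by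
        rw [← orb_eq_of_mem (s2 hx0'), orb_eq_of_mem (s1 hx0)]
      exact Set.union_subset s1 (s3 ▸ s2)
  set K : Subgroup G := ⁅Y, Y⁆ with hK
  have hKY : K ≤ Y := by simpa using (commutator_le_sup Y Y)
  have hYn : Y ≤ normalizer (K : Set G) := normalizer_commutator_ge_left Y Y
  have hKW : ∀ a, ¬ Fx B d a → K ≤ stabilizer G a := by
    intro a ha
    rw [hK, commutator_le]
    intro x hx y hy
    have h' : ¬ Fx B d ((y * x)⁻¹ • a) :=
      not_Fx_smul ((cD B d).inv_mem (EE_le B d (hYE (Y.mul_mem hy hx)))) ha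
    have e := EE_comm hea (hYE hx) (hYE hy) h'
    rw [smul_inv_smul, ← mul_smul] at e
    rw [mem_stabilizer_iff, commutatorElement_def]
    convert e using 2
    group
  -- (3)
  have hKp : ¬ p ∣ Nat.card K := by
    intro hdv
    obtain ⟨u, hu⟩ := exists_prime_orderOf_dvd_card' (G := K) p hdv
    have hu' : orderOf (u : G) = p := by rw [Subgroup.orderOf_coe, hu]
    have hz : IsPGroup p (zpowers (u : G)) := by
      apply IsPGroup.of_card (n := 1)
      rw [Nat.card_zpowers, hu', pow_one]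
    have huC : (u : G) ∈ cD B d := EE_le B d (hYE (hKY u.2))
    obtain ⟨e, he, hle⟩ := hL.syl.exists_conj_le hz ((zpowers_le).mpr huC)
    have hw : e * u * e⁻¹ ∈ B := (conj_smul_le_iff _ _ _).mp hle _ (mem_zpowers _)
    have h0 := h3 G Ω p q P B Δ hC d hd _ hw fun a ha ha' => by
      have h' : ¬ Fx B d (e⁻¹ • a) := not_Fx_smul ((cD B d).inv_mem he) (hW' a ha ha')
      have : (u : G) • e⁻¹ • a = e⁻¹ • a := hKW _ h' u.2
      rw [mul_smul, mul_smul, this, smul_inv_smul]
    have : (u : G) = 1 := by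
      calc (u : G) = e⁻¹ * (e * u * e⁻¹) * e := by group
        _ = 1 := by rw [h0]; group
    rw [this, orderOf_one] at hu'
    exact hp.one_lt.ne hu'
  -- (4)
  have hKd : orb K d = O := by
    rw [← hYd]
    apply orb_comm hp
    · rintro x (rfl | rfl)
      · exact hbp
      · exact hb'p
    · rw [osz_eq_ncard, hYd]
      rintro ⟨m, hm⟩
      rw [hm] at hO1 hO2
      have a1 : 1 < m := by
        by_contra h
        have : p * m ≤ p * 1 := Nat.mul_le_mul_left p (by omega)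
        omega
      have : p * 2 ≤ p * m := Nat.mul_le_mul_left p a1
      omega
  have hoK : osz K d = O.ncard := by rw [osz_eq_ncard, hKd]
  -- (5)
  have hset : {x | x ∈ orb K d ∧ b • x ≠ x} = β := by
    rw [hKd]
    ext x
    constructor
    · rintro ⟨hx, hx'⟩
      exact ((hF x).mp (hOF x hx)).resolve_left fun h => hx' (hΓ x h b hb)
    · exact fun hx => ⟨Or.inl hx, hbβ x hx⟩
  have p5 := hC.p5
  have := h1 G Ω p K b d hp (by omega) hKp hbp (hYn hbY)
    (by rw [hKd]; exact hYO b hbY) (by rw [hset, hcβ]) (by rw [hoK]; exact hO1) (by rw [hoK]; exact hO2)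
  rwa [hoK] at this

end CL.EQ
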