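import Cfsg.Agent.EQ.Basic

/-! Project EQ, job D1: inner products of the induced virtual characters. -/

set_option autoImplicit false
set_option linter.style.haveILetI false

open Cfsg CL.Grp CL.Char MulAction Subgroup

namespace CL.EQ

universe u v

namespace D1x

theorem inner_lp {C : Type u} [Group C] [Fintype C] {l : C →* ℂˣ} {m : ℕ} (m0 : m ≠ 0) {τ : C}
    (hτ : orderOf (l τ) = m) (pw : ∀ x, l x ^ m = 1) (i j : ℕ) :
    classInner (lp l i) (lp l j) = if i ≡ j [MOD m] then 1 else 0 := by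
  have e : ∀ x, lp l i x * (starRingEnd ℂ) (lp l j x) = (Units.coeHom ℂ).comp (l ^ i * (l ^ j)⁻¹) x := fun x => by
    rw [← Complex.inv_eq_conj (Complex.norm_eq_one_of_pow_eq_one (n := m) (by
      rw [lp, ← Units.val_pow_eq_pow_val, ← pow_mul, mul_comm, pow_mul, pw, one_pow, Units.val_one]) m0)]
    simp [lp]
  rw [classInner_def, Finset.sum_congr rfl fun x _ => e x]
  split_ifs with h
  · rw [Finset.sum_congr rfl (g := fun _ => 1) fun x _ => by simp [pow_eq_pow_of_modEq h (pw x)]]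
    simp
  · rw [sum_hom_units_eq_zero _ fun k => h ?_, mul_zero]
    have := DFunLike.congr_fun k τ
    rw [← hτ, ← pow_eq_pow_iff_modEq, ← mul_inv_eq_one]
    exact Units.ext this

variable {G : Type u} [Group G] [Fintype G] {p : ℕ} {C N : Subgroup G} {l : C →* ℂˣ} {τ : C} {e : G → ℕ}

/-- the data used in the computation -/
structure Dt (p : ℕ) (C N : Subgroup G) (l : C →* ℂˣ) (τ : C) (e : G → ℕ) : Prop where
  hp : p.Prime
  ord : orderOf (l τ) = p ^ 2
  pw : ∀ x, l x ^ p ^ 2 = 1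
  le : C ≤ N
  ti : ∀ x : C, l x ≠ 1 → ∀ g : G, g * x * g⁻¹ ∈ C → g ∈ N
  nd : ∀ n ∈ N, ¬ p ∣ e n
  one : ∀ n ∈ N, e n ≡ 1 [MOD p] → n ∈ C
  cnj : ∀ n ∈ N, ∀ x : C, ∃ h : n * x * n⁻¹ ∈ C, l ⟨n * x * n⁻¹, h⟩ = l x ^ e n

variable (h : Dt p C N l τ e)
include h

omit [Fintype G] in
theorem Dt.of_mem {c : G} (hc : c ∈ C) : e c ≡ 1 [MOD p ^ 2] := by
  obtain ⟨k, e1⟩ := h.cnj c (h.le hc) τ
  rw [← h.ord, ← pow_eq_pow_iff_modEq, ← e1, pow_one,
    show (⟨c * τ * c⁻¹, k⟩ : C) = ⟨c, hc⟩ * τ * ⟨c, hc⟩⁻¹ from rfl, map_mul, map_mul, map_inv, mul_inv_cancel_comm]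

omit [Fintype G] in
theorem Dt.mul {n n' : G} (hn : n ∈ N) (hn' : n' ∈ N) : e (n * n') ≡ e n * e n' [MOD p ^ 2] := by
  obtain ⟨k, e1⟩ := h.cnj n' hn' τ
  obtain ⟨k', e2⟩ := h.cnj n hn ⟨_, k⟩
  obtain ⟨k'', e3⟩ := h.cnj _ (mul_mem hn hn') τ
  rw [← h.ord, ← pow_eq_pow_iff_modEq, ← e3, mul_comm (e n), pow_mul, ← e1, ← e2]
  congr 2
  group

omit [Fintype G] in
theorem Dt.cop {b : ℕ} (hb : ¬ p ∣ b) : (p ^ 2).Coprime b := ((h.hp.coprime_iff_not_dvd).2 hb).pow_left 2

open Classical in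
theorem Dt.inner {a b : ℕ} (ha : ¬ p ∣ a) (hb : ¬ p ∣ b) : classInner (th l p a) (th l p b) = (Nat.card C : ℂ)⁻¹ *
    ((Finset.univ.filter fun n => n ∈ N ∧ a ≡ e n * b [MOD p ^ 2]).card + Nat.card C) := by
  have e1 : classInner (th l p a) (th l p b) = classInner (lp l a - lp l p) ((Nat.card C : ℂ)⁻¹ •
      ∑ n ∈ Finset.univ.filter (· ∈ N), (lp l (e n * b) - lp l (e n * p))) := by
    rw [th, th, frobenius_reciprocity _ (indFun_isClassFunction _), classInner_def, classInner_def]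
    refine congrArg _ (Finset.sum_congr rfl fun x _ => ?_)
    by_cases hx : l x = 1
    · simp [lp, hx]
    congr 2
    rw [indFun_apply', Pi.smul_apply, smul_eq_mul, Finset.sum_apply, Finset.sum_filter]
    refine congrArg _ (Finset.sum_congr rfl fun g _ => ?_)
    split_ifs with hg
    · obtain ⟨k, e2⟩ := h.cnj g hg x
      rw [extendByZero_of_mem _ k]
      simp only [Pi.sub_apply, lp, e2, pow_mul]
    · exact extendByZero_of_not_mem _ fun k => hg (h.ti x hx g k)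
  have pp : p ∣ p ^ 2 := dvd_pow_self p two_ne_zero
  rw [e1, classInner_smul_right, classInner_sum_right, map_inv₀, map_natCast,
    Finset.sum_congr rfl (g := fun n => (if a ≡ e n * b [MOD p ^ 2] then 1 else 0) + if n ∈ C then 1 else 0)
      fun n hn => ?_, Finset.sum_add_distrib, Finset.sum_boole, Finset.sum_boole, Finset.filter_filter,
    Finset.filter_filter, Nat.card_eq_fintype_card (α := C), Fintype.card_subtype,
    Finset.filter_congr (p := fun n => n ∈ N ∧ n ∈ C) (q := (· ∈ C)) fun n _ => and_iff_right_of_imp (h.le ·)]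
  replace hn := (Finset.mem_filter.1 hn).2
  simp only [classInner_sub_left, classInner_sub_right, inner_lp (pow_ne_zero 2 h.hp.ne_zero) h.ord h.pw]
  rw [if_neg (c := p ≡ _ * b [MOD _]) fun k => ((h.hp.dvd_mul.1 (((k.of_dvd pp).dvd_iff dvd_rfl).1 dvd_rfl)).elim
      (h.nd n hn) hb),
    if_neg (c := a ≡ _ * p [MOD _]) fun k => ha (((k.of_dvd pp).dvd_iff dvd_rfl).2 (dvd_mul_left _ _)),
    if_congr (P := p ≡ _ * p [MOD _]) (Q := n ∈ C) ⟨fun k => h.one n hn (Nat.ModEq.mul_right_cancel' h.hp.ne_zero (by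
      rw [one_mul, ← pow_two]; exact k.symm)), fun k => by
      simpa using ((h.of_mem k).mul_right p).symm⟩ rfl rfl]
  ring

open Classical in
theorem Dt.two {a b : ℕ} (ha : ¬ p ∣ a) (hb : ¬ p ∣ b) {n : G} (hn : n ∈ N) (k : a ≡ e n * b [MOD p ^ 2]) :
    classInner (th l p a) (th l p b) = 2 := by
  have e1 : (Finset.univ.filter fun n => n ∈ N ∧ a ≡ e n * b [MOD p ^ 2]).card = Nat.card C := by
    rw [Nat.card_eq_fintype_card, Fintype.card_subtype]
    refine Finset.card_equiv (Equiv.mulLeft n⁻¹) fun g => ?_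
    simp only [Finset.mem_filter, Finset.mem_univ, true_and, Equiv.coe_mulLeft]
    refine ⟨fun ⟨hg, k'⟩ => ?_, fun hc => ?_⟩
    · have e2 := h.mul hn (mul_mem (inv_mem hn) hg)
      rw [mul_inv_cancel_left] at e2
      have e3 := (Nat.ModEq.cancel_right_of_coprime (h.cop hb) (k.symm.trans k')).trans e2
      exact h.one _ (mul_mem (inv_mem hn) hg) ((Nat.ModEq.cancel_left_of_coprime (h.cop (h.nd n hn))
        (by rw [mul_one]; exact e3.symm)).of_dvd (dvd_pow_self p two_ne_zero))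
    · have e2 := (h.mul hn (h.le hc)).trans ((h.of_mem hc).mul_left _)
      rw [mul_inv_cancel_left, mul_one] at e2
      exact ⟨(mul_mem_cancel_left (inv_mem hn)).1 (h.le hc), k.trans (e2.symm.mul_right b)⟩
  rw [h.inner ha hb, e1, ← two_mul, mul_left_comm, inv_mul_cancel₀ (natCard_subgroup_ne_zero C), mul_one]

open Classical in
theorem Dt.uno {a b : ℕ} (ha : ¬ p ∣ a) (hb : ¬ p ∣ b) (k : ¬ ∃ n ∈ N, a ≡ e n * b [MOD p ^ 2]) :
    classInner (th l p a) (th l p b) = 1 := by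
  rw [h.inner ha hb, Finset.filter_eq_empty_iff.2 fun n _ k' => k ⟨n, k'⟩, Finset.card_empty, Nat.cast_zero, zero_add,
    inv_mul_cancel₀ (natCard_subgroup_ne_zero C)]

end D1x

open D1x in
theorem d1 : D1.{u, v} := by
  intro G Ω _ _ _ _ p q t Δ l hY hL a b ha hb
  choose! e e1 e2 e3 using hL.cnj
  have ht : t ∈ centralizer ({t ^ p} : Set G) := mem_centralizer_singleton_iff.2 (Commute.self_pow t p).eq
  have h : Dt p _ (normalizer ((zpowers (t ^ p) : Subgroup G) : Set G)) l ⟨t, ht⟩ e :=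
    ⟨hY.hp, hL.ord ht, hL.pw, fun c hc => centralizer_le_normalizer _ (mem_centralizer_iff.2 fun _ ⟨i, hi⟩ =>
      hi ▸ ((show Commute c (t ^ p) from mem_centralizer_singleton_iff.1 hc).zpow_right i).symm.eq),
      hL.ti, e1, e2, e3⟩
  refine ⟨?_, fun k => h.two ha hb (one_mem _) ?_, fun k k' => h.uno ha hb fun ⟨n, hn, k''⟩ => k' ?_⟩
  · by_cases k : ∃ n ∈ normalizer ((zpowers (t ^ p) : Subgroup G) : Set G), a ≡ e n * b [MOD p ^ 2]
    · obtain ⟨n, hn, k⟩ := k
      exact .inr (h.two ha hb hn k)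
    · exact .inl (h.uno ha hb k)
  · simpa [k] using ((h.of_mem (one_mem _)).mul_right b).symm
  · have := h.one n hn (Nat.ModEq.cancel_right_of_coprime ((hY.hp.coprime_iff_not_dvd).2 hb) (by
      rw [one_mul]; exact (k''.of_dvd (dvd_pow_self p two_ne_zero)).symm.trans k))
    simpa using k''.trans ((h.of_mem this).mul_right b)

end CL.EQ
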