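import Cfsg.Agent.EQ.Basic

/-! Project EQ: multiplicities in the permutation character. -/

set_option autoImplicit false
set_option linter.style.haveILetI false

open Cfsg CL.Grp CL.Char MulAction Subgroup
open scoped ComplexConjugate

namespace CL.EQ

universe u v w

namespace D2x

/-- Burnside's orbit count over `ℂ` -/
theorem burn (H : Type u) (X : Type w) [Group H] [Fintype H] [MulAction H X] [Finite X] :
    (Nat.card H : ℂ)⁻¹ * ∑ g : H, (Nat.card (fixedBy X g) : ℂ) =
      Nat.card (Quotient (orbitRel H X)) := by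
  classical
  haveI := Fintype.ofFinite X
  haveI : Fintype (Quotient (orbitRel H X)) := Fintype.ofFinite _
  have h := MulAction.sum_card_fixedBy_eq_card_orbits_mul_card_group H X
  have h2 : ∑ g : H, (Nat.card (fixedBy X g) : ℂ) =
      (Nat.card (Quotient (orbitRel H X)) : ℂ) * Nat.card H := by
    simp only [Nat.card_eq_fintype_card]
    exact_mod_cast h
  rw [h2]
  field_simp [natCard_ne_zero (G := H)]

theorem card_fix {H : Type u} {X : Type w} [Group H] [MulAction H X] [Fintype X] [DecidableEq X] (g : H) :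
    (Nat.card (fixedBy X g) : ℂ) = ∑ x : X, if g • x = x then 1 else 0 := by
  rw [Finset.sum_boole, Nat.card_eq_fintype_card, Fintype.card_subtype]
  simp [mem_fixedBy]

theorem mk_eq {H : Type u} {X : Type w} [Group H] [MulAction H X] {a b : X} :
    (Quotient.mk (orbitRel H X) b = Quotient.mk (orbitRel H X) a) ↔ ∃ g : H, g • a = b := by
  rw [Quotient.eq]; rfl

theorem eq_of_two {α : Type w} [Finite α] (h : Nat.card α = 2) {x y z : α} (h1 : x ≠ y) (h2 : x ≠ z) :
    y = z := by
  by_contra h3
  haveI := Fintype.ofFinite α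
  have := Fintype.two_lt_card_iff.mpr ⟨x, y, z, h1, h2, h3⟩
  rw [← Nat.card_eq_fintype_card] at this
  omega

theorem cent_le {G : Type u} [Group G] (z : G) :
    centralizer ({z} : Set G) ≤ normalizer ((zpowers z : Subgroup G) : Set G) := by
  refine le_trans ?_ (centralizer_le_normalizer _)
  intro c hc x hx
  obtain ⟨k, rfl⟩ := mem_zpowers_iff.mp hx
  have : Commute z c := hc z rfl
  exact (this.zpow_left k).eq

theorem card_fix_prod {G : Type u} {Ω : Type v} [Group G] [MulAction G Ω] (g : G) :
    Nat.card (fixedBy (Ω × Ω) g) = Nat.card (fixedBy Ω g) * Nat.card (fixedBy Ω g) := by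
  rw [← Nat.card_prod]
  refine Nat.card_congr ⟨fun x => (⟨x.1.1, congrArg Prod.fst x.2⟩, ⟨x.1.2, congrArg Prod.snd x.2⟩),
    fun y => ⟨(y.1.1, y.2.1), Prod.ext y.1.2 y.2.2⟩, fun _ => rfl, fun _ => rfl⟩

end D2x

open D2x

theorem d2 : D2.{u,v} := by
  intro G Ω _ _ _ _ p q t Δ l _ h hl
  classical
  haveI := Fintype.ofFinite Ω
  let C : Subgroup G := centralizer ({t ^ p} : Set G)
  have hp := h.hp
  have htC : t ∈ C := by
    intro x hx
    rw [Set.mem_singleton_iff.mp hx]
    exact ((Commute.refl t).pow_left p).eq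
  have hzC : t ^ p ∈ C := C.pow_mem htC p
  have hzG : ∀ a : Ω, a ∉ Δ → (t ^ p) • a = a := fun a ha =>
    (h.fixB a).mpr ha _ (mem_zpowers _)
  refine ⟨fun a ha => ?_, ?_, ?_, fun h2 a b c d hab hcd => ?_⟩
  · -- the faithful linear characters
    have hz : (l ⟨t ^ p, hzC⟩) ^ a ≠ 1 := by
      intro e
      have e1 : (⟨t ^ p, hzC⟩ : C) = (⟨t, htC⟩ : C) ^ p := rfl
      rw [e1, map_pow, ← pow_mul] at e
      have := orderOf_dvd_of_pow_eq_one e
      rw [hl.ord htC, pow_two] at this
      exact ha (Nat.dvd_of_mul_dvd_mul_left hp.pos this)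
    have inner : ∀ x : Ω, (∑ g : C, (if (g : G) • x = x then (1 : ℂ) else 0) * conj (lp l a g)) =
        if x ∈ Δ then (Nat.card l.ker : ℂ) else 0 := by
      intro x
      split_ifs with hx
      · rw [Nat.card_eq_fintype_card, Fintype.card_subtype, ← Finset.sum_boole]
        refine Finset.sum_congr rfl fun g _ => ?_
        by_cases hg : l g = 1
        · rw [if_pos ((hl.fixD g x hx).mpr hg), if_pos (MonoidHom.mem_ker.mpr hg)]
          simp [lp, hg]
        · rw [if_neg (fun e => hg ((hl.fixD g x hx).mp e)), if_neg (fun e => hg (MonoidHom.mem_ker.mp e))]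
          simp
      · set S := ∑ g : C, (if (g : G) • x = x then (1 : ℂ) else 0) * conj (lp l a g) with hS
        have e : S = conj (lp l a ⟨t ^ p, hzC⟩) * S := by
          conv_lhs => rw [hS, ← Equiv.sum_comp (Equiv.mulRight (⟨t ^ p, hzC⟩ : C))]
          rw [hS, Finset.mul_sum]
          refine Finset.sum_congr rfl fun g _ => ?_
          have e1 : ((Equiv.mulRight (⟨t ^ p, hzC⟩ : C) g : C) : G) • x = (g : G) • x := by
            change ((g : G) * t ^ p) • x = _
            rw [mul_smul, hzG x hx]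
          have e2 : lp l a (Equiv.mulRight (⟨t ^ p, hzC⟩ : C) g) = lp l a g * lp l a ⟨t ^ p, hzC⟩ := by
            simp [lp, mul_pow]
          rw [e1, e2, map_mul]
          ring
        have hne : conj (lp l a ⟨t ^ p, hzC⟩) ≠ 1 := by
          intro e0
          apply hz
          have : lp l a ⟨t ^ p, hzC⟩ = 1 := by
            have := congrArg conj e0
            simpa using this
          exact Units.ext this
        by_contra hS0
        exact hne (mul_right_cancel₀ hS0 (by rw [← e, one_mul]))
    rw [classInner]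
    have e : (∑ g : C, pc G Ω g * conj (lp l a g)) = (p : ℂ) ^ 2 * Nat.card l.ker := by
      simp only [pc, card_fix, Finset.sum_mul]
      rw [Finset.sum_comm]
      simp only [inner]
      rw [← Finset.sum_filter, Finset.sum_const, nsmul_eq_mul]
      congr 1
      have := h.cardD
      rw [Set.ncard_eq_toFinset_card' Δ] at this
      have e3 : (Finset.univ.filter fun x => x ∈ Δ) = Δ.toFinset := by ext; simp
      rw [e3, this]
      push_cast
      rfl
    rw [e]
    have e4 : (Nat.card C : ℂ) = (p : ℂ) ^ 2 * Nat.card l.ker := by exact_mod_cast hl.card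
    rw [← e4]
    exact inv_mul_cancel₀ natCard_ne_zero
  · -- the character `l^p`
    have hD : ∀ c ∈ C, ∀ a : Ω, (c • a ∈ Δ ↔ a ∈ Δ) := fun c hc => h.nD c (cent_le _ hc)
    obtain ⟨d, hd⟩ : Δ.Nonempty := Set.nonempty_of_ncard_ne_zero (by rw [h.cardD]; exact pow_ne_zero _ hp.ne_zero)
    have hne : ∀ a : Ω, a ∉ Δ → Quotient.mk (orbitRel C Ω) d ≠ Quotient.mk (orbitRel C Ω) a := by
      intro a ha e
      obtain ⟨g, hg⟩ := mk_eq.mp e
      exact ha ((hD g g.2 a).mp (by rw [← hg] at hd; exact hd))
    refine ⟨Nat.card (Quotient (orbitRel C Ω)), ?_, ?_, fun h2 a ha b hb => ?_⟩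
    · obtain ⟨c, hc⟩ := h.neG
      haveI : Nontrivial (Quotient (orbitRel C Ω)) := ⟨⟨_, _, hne c hc⟩⟩
      exact Finite.one_lt_card
    · rw [← burn C Ω, classInner]
      congr 1
      refine Finset.sum_congr rfl fun g _ => ?_
      have e0 : pc G Ω g = (Nat.card (fixedBy Ω g) : ℂ) := rfl
      by_cases hg : ∃ x : Ω, (g : G) • x = x
      · obtain ⟨x, hx⟩ := hg
        have : l g ^ p = 1 := by
          by_cases hxD : x ∈ Δ
          · rw [(hl.fixD g x hxD).mp hx, one_pow]
          · exact hl.fixG g x hxD hx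
        rw [e0]
        simp [lp, this]
      · have : (Nat.card (fixedBy Ω g) : ℂ) = 0 := by
          haveI : IsEmpty (fixedBy Ω g) := ⟨fun x => hg ⟨x.1, x.2⟩⟩
          simp
        rw [e0, this, zero_mul]
    · obtain ⟨g, hg⟩ := mk_eq.mp (eq_of_two h2 (hne b hb) (hne a ha))
      exact ⟨g, g.2, hg⟩
  · -- transitivity
    have e : Nat.card (Quotient (orbitRel G Ω)) = 1 := by
      obtain ⟨c, -⟩ := h.neG
      rw [Nat.card_eq_one_iff_unique]
      refine ⟨⟨fun x y => ?_⟩, ⟨Quotient.mk _ c⟩⟩
      induction x using Quotient.inductionOn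
      induction y using Quotient.inductionOn
      exact mk_eq.mpr (h.tr _ _)
    have := burn G Ω
    rw [e] at this
    rw [classInner]
    simpa [pc] using this
  · -- double transitivity
    have e : classInner (pc G Ω) (pc G Ω) = Nat.card (Quotient (orbitRel G (Ω × Ω))) := by
      rw [← burn G (Ω × Ω), classInner]
      congr 1
      refine Finset.sum_congr rfl fun g _ => ?_
      rw [card_fix_prod]
      simp [pc]
    rw [e] at h2
    have h3 : Nat.card (Quotient (orbitRel G (Ω × Ω))) = 2 := by exact_mod_cast h2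
    have hne : ∀ x y : Ω, x ≠ y →
        Quotient.mk (orbitRel G (Ω × Ω)) (x, y) ≠ Quotient.mk (orbitRel G (Ω × Ω)) (a, a) := by
      intro x y hxy e
      obtain ⟨g, hg⟩ := mk_eq.mp e
      exact hxy ((congrArg Prod.fst hg).symm.trans (congrArg Prod.snd hg))
    obtain ⟨g, hg⟩ := mk_eq.mp (eq_of_two h3 (hne c d hcd).symm (hne a b hab).symm)
    exact ⟨g, congrArg Prod.fst hg, congrArg Prod.snd hg⟩

end CL.EQ
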