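import Cfsg.Agent.EQ.Basic

/-! Project EQ: the abstract character-theoretic step. -/

set_option autoImplicit false

open Cfsg CL.Grp CL.Char MulAction Subgroup

namespace CL.EQ

universe u v

namespace D3x

variable {G : Type u} [Group G] [Fintype G] {X Y X' Y' : IrrCharacter G}

theorem ip1 (h : X ≠ Y) (_h : X' ≠ Y') (e : classInner (X.1 - Y.1) (X'.1 - Y'.1) = 1) :
    (X = X' ∧ Y ≠ Y') ∨ (X ≠ X' ∧ Y = Y') := by
  simp only [classInner_sub_left, classInner_sub_right, classInner_irr] at e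
  split_ifs at e <;> first | (norm_num at e; done) | simp_all

theorem ip2 (e : classInner (X.1 - Y.1) (X'.1 - Y'.1) = 2) : Y = Y' := by
  simp only [classInner_sub_left, classInner_sub_right, classInner_irr] at e
  split_ifs at e <;> first | (norm_num at e; done) | assumption

theorem const_left {H : Type u} [Group H] [Fintype H] (c : ℂ) (f : H → ℂ) :
    classInner (fun _ => c) f = c * classInner (fun _ => 1) f := by
  rw [← classInner_smul_left]; congr 1; ext; simp

end D3x

open D3x

theorem d3 : D3.{u} := by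
  intro G _ _ C _ π I lam mu R a₁ a₂ a₃ hπ hl hm h1 h2 h12 i1 i2 i3 e12 e13 e23 hp hR hR' hc p1 m0
  have : Nonempty (IrrCharacter G) := ⟨irrOne G⟩
  have h3 : ∀ a ∈ I, ∃ X Y : IrrCharacter G, X ≠ Y ∧ indFun C (lam a - mu) = X.1 - Y.1 := fun a ha =>
    exc_eq_sub_of_norm_two ⟨_, _, isCharacter_indFun (hl a ha), isCharacter_indFun hm, indFun_sub _ _⟩ (h2 a ha)
      (by rw [indFun_one, Pi.sub_apply, h1 a ha, sub_self, mul_zero])
  choose! X Y hne hXY using h3
  have fr : ∀ χ, IsCharacter G χ → ∀ a ∈ I, classInner χ (X a) - classInner χ (Y a) =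
      classInner (fun x : C => χ x) (lam a) - classInner (fun x : C => χ x) mu := fun χ hχ a ha => by
    rw [← classInner_sub_right, ← classInner_sub_right, ← hXY a ha, frobenius_reciprocity' _ hχ.isClassFunction]
  have nt : ∀ χ, IsCharacter G χ → ∀ a ∈ I, ∃ n : ℕ, classInner (fun x : C => χ x) (lam a) = n := fun χ hχ a ha =>
    (hχ.restrict C).exists_nat_classInner (hl a ha)
  have sb : ∀ (χ ψ : G → ℂ) (f : C → ℂ), classInner (fun x : C => (χ - ψ) x) f =
      classInner (fun x : C => χ x) f - classInner (fun x : C => ψ x) f := fun χ ψ f => classInner_sub_left _ _ _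
  have piY : ∀ a ∈ I, classInner π (Y a) ≠ 0 := fun a ha e => by
    obtain ⟨n, hn⟩ := hπ.exists_nat_classInner (X a).2.isCharacter
    have := fr π hπ a ha
    rw [e, hn, hp a ha, hR'] at this
    have : n + R = 1 := by exact_mod_cast (show (n : ℂ) + R = 1 by linear_combination this)
    omega
  have yy : ∀ a ∈ I, classInner (fun x : C => (Y a : G → ℂ) x) mu =
      classInner (fun x : C => (Y a : G → ℂ) x) (lam a) + 1 := fun a ha => by
    have := fr _ (Y a).2.isCharacter a ha
    rw [classInner_irr, classInner_irr, if_neg (hne a ha).symm, if_pos rfl] at this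
    linear_combination this
  rw [hXY _ i1, hXY _ i2] at e12
  rw [hXY _ i1, hXY _ i3] at e13
  rw [hXY _ i2, hXY _ i3] at e23
  rcases ip1 (hne _ i1) (hne _ i2) e12 with ⟨x12, y12⟩ | ⟨x12, y12⟩
  · exfalso
    obtain ⟨x13, y13, y23⟩ : X a₁ = X a₃ ∧ Y a₁ ≠ Y a₃ ∧ Y a₂ ≠ Y a₃ := by
      rcases ip1 (hne _ i1) (hne _ i3) e13 with k | k <;> rcases ip1 (hne _ i2) (hne _ i3) e23 with k' | k'
      exacts [⟨k.1, k.2, k'.2⟩, (k'.1 (x12 ▸ k.1)).elim, (k.1 (x12 ▸ k'.1)).elim, (y12 (k.2.trans k'.2.symm)).elim]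
    have h4 : ∀ b ∈ I, X a₁ = X b → Y a₁ ≠ Y b →
        ∃ n : ℕ, classInner (fun x : C => (Y b : G → ℂ) x) (lam a₁) = n + 1 := fun b hb e e' => by
      obtain ⟨n, hn⟩ := nt _ (Y b).2.isCharacter b hb
      have := fr _ (Y b).2.isCharacter a₁ i1
      rw [classInner_irr, classInner_irr, e, if_neg (hne b hb).symm, if_neg e'.symm, yy b hb, hn] at this
      exact ⟨n, by linear_combination -this⟩
    obtain ⟨n2, k2⟩ := h4 _ i2 x12 y12
    obtain ⟨n3, k3⟩ := h4 _ i3 x13 y13
    obtain ⟨n, hn⟩ := nt _ ((hπ.sub_of_classInner_ne_zero (Y a₂).2 (piY _ i2)).sub_of_classInner_ne_zero (Y a₃).2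
      (by rw [classInner_sub_left, classInner_irr, if_neg y23, sub_zero]; exact piY _ i3)) _ i1
    rw [sb, sb, hp _ i1, k2, k3] at hn
    have : n + n2 + n3 + 1 = 0 := by exact_mod_cast (show (n : ℂ) + n2 + n3 + 1 = 0 by linear_combination -hn)
    omega
  have hY : ∀ a ∈ I, Y a = Y a₁ := fun a ha => by
    by_contra hn
    have k : ∀ b ∈ I, Y b = Y a₁ → X b = X a := fun b hb e => by
      have := h12 b hb a ha
      rw [hXY _ hb, hXY _ ha] at this
      rcases this with k | k
      · exact ((ip1 (hne _ hb) (hne _ ha) k).resolve_right fun k => hn (k.2.symm.trans e)).1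
      · exact (hn ((ip2 k).symm.trans e)).elim
    exact x12 ((k _ i1 rfl).trans (k _ i2 y12.symm).symm)
  have hψ := hπ.sub_of_classInner_ne_zero (Y a₁).2 (piY _ i1)
  obtain ⟨y, hy⟩ := nt _ (Y a₁).2.isCharacter _ i1
  obtain ⟨k, hk⟩ := nt _ hψ _ i1
  have ym := yy _ i1
  rw [hy] at ym
  have ya : ∀ a ∈ I, classInner (fun x : C => (Y a₁ : G → ℂ) x) (lam a) = y := fun a ha => by
    have := yy a ha
    rw [hY a ha, ym] at this
    exact (add_right_cancel this).symm
  rw [sb, hp _ i1, hy] at hk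
  have hky : k + y = 1 := by exact_mod_cast (show (k : ℂ) + y = 1 by linear_combination -hk)
  have nc : ∀ c : ℂ, (Y a₁ : G → ℂ) ≠ fun _ => c := fun c e => by
    rw [e, const_left, m0, mul_zero] at ym
    exact Nat.cast_add_one_ne_zero y ym.symm
  obtain rfl : y = 1 := by
    by_contra hn
    obtain rfl : y = 0 := by omega
    obtain ⟨c, e⟩ := hc _ (Y a₁).2.isCharacter hψ fun a ha => by rw [ya a ha, Nat.cast_zero]
    exact nc c e
  obtain ⟨c, e⟩ := hc _ hψ (by rw [sub_sub_cancel]; exact (Y a₁).2.isCharacter) fun a ha => by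
    rw [sb, hp a ha, ya a ha, Nat.cast_one, sub_self]
  have o1 := (Y a₁).2.classInner_of_ne isIrrCharacter_one (nc 1)
  have o2 := isIrrCharacter_one.classInner_of_ne (Y a₁).2 (nc 1).symm
  have o3 := (isIrrCharacter_one (G := G)).classInner_self
  obtain rfl : c = 1 := by
    have := classInner_sub_left π (Y a₁) fun _ => 1
    rwa [e, p1, o1, const_left, o3, mul_one, sub_zero] at this
  constructor
  · rw [sub_eq_iff_eq_add.1 e, classInner_add_left, classInner_add_right, classInner_add_right, o1, o2, o3,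
      (Y a₁).2.classInner_self]
    norm_num
  · have := sb π (Y a₁) mu
    rw [e, hR', ym, m0] at this
    exact_mod_cast (show (R : ℂ) = 2 by rw [Nat.cast_one] at this; linear_combination -this)

end CL.EQ
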