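/-
Project EQ, step D4: constituents of the permutation character without a faithful `l^a` are trivial.
-/
import Cfsg.Agent.EQ.Basic

set_option autoImplicit false

open Cfsg CL.Grp CL.Char MulAction Subgroup

namespace CL.EQ

universe u v

namespace D4x

theorem sub_sum {G : Type u} [Group G] [Fintype G] {ι : Type*} (s : Finset ι) (f : ι → G → ℂ) {χ : G → ℂ}
    (hχ : IsCharacter G χ) (hf : ∀ i ∈ s, IsIrrCharacter G (f i)) (hne : ∀ i ∈ s, ∀ j ∈ s, f i = f j → i = j)
    (h : ∀ i ∈ s, classInner χ (f i) ≠ 0) : IsCharacter G (χ - ∑ i ∈ s, f i) := by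
  classical
  induction s using Finset.induction_on with
  | empty => simpa using hχ
  | insert a s ha ih =>
    have hs : ∀ i ∈ s, i ∈ insert a s := fun i hi => Finset.mem_insert_of_mem hi
    have h0 := Finset.mem_insert_self a s
    rw [Finset.sum_insert ha, add_comm, ← sub_sub]
    refine (ih (fun i hi => hf i (hs i hi)) (fun i hi j hj => hne i (hs i hi) j (hs j hj))
      fun i hi => h i (hs i hi)).sub_of_classInner_ne_zero (hf a h0) ?_
    rw [classInner_sub_left, classInner_sum_left, Finset.sum_eq_zero, sub_zero]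
    · exact h a h0
    · exact fun i hi => (hf i (hs i hi)).classInner_of_ne (hf a h0) fun e => ha (hne i (hs i hi) a h0 e ▸ hi)

theorem lp_irr {C : Type u} [Group C] (l : C →* ℂˣ) (a : ℕ) : IsIrrCharacter C (lp l a) :=
  isIrrCharacter_linear (l ^ a)

theorem geom {p : ℕ} (hp : p.Prime) {w : ℂ} (h1 : w ^ p = 1) (h2 : w ≠ 1) :
    ∑ a ∈ (Finset.range (p ^ 2)).filter (fun a => ¬ p ∣ a), (1 - w ^ a) = (p : ℂ) ^ 2 := by
  have e : ∑ a ∈ Finset.range (p ^ 2), w ^ a = 0 := by
    have := mul_geom_sum w (p ^ 2)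
    rw [pow_two p, pow_mul, h1, one_pow, sub_self] at this
    rw [pow_two]
    exact (mul_eq_zero.1 this).resolve_left (sub_ne_zero.2 h2)
  rw [Finset.sum_filter_of_ne, Finset.sum_sub_distrib, e]
  · simp
  · rintro a - h ⟨b, rfl⟩
    exact h (by rw [pow_mul, h1, one_pow, sub_self])

/-- a constituent of a permutation character whose kernel contains a transitive normal subgroup is trivial -/
theorem triv {G : Type u} {Ω : Type v} [Group G] [Fintype G] [MulAction G Ω] [Finite Ω] (w : Ω) (M : Subgroup G)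
    [M.Normal] (hM : ∀ a b : Ω, ∃ m ∈ M, m • a = b) {f : G → ℂ} (hf : IsIrrCharacter G f) (hk : M ≤ charKer f)
    (h : classInner (pc G Ω) f ≠ 0) : f = fun _ => 1 := by
  classical
  have : IsPretransitive G Ω := ⟨fun a b => let ⟨m, _, e⟩ := hM a b; ⟨m, e⟩⟩
  have : Fintype (stabilizer G w) := Fintype.ofFinite _
  have : Fintype (G ⧸ M) := Fintype.ofFinite _
  rw [show pc G Ω = _ from permChar_eq_indFun Ω w, frobenius_reciprocity _ hf.isClassFunction] at h
  obtain ⟨f₀, -, rfl⟩ := hf.exists_quotient M hk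
  have hs : Function.Surjective ((QuotientGroup.mk' M).comp (stabilizer G w).subtype) := fun y => by
    obtain ⟨g, rfl⟩ := QuotientGroup.mk_surjective y
    obtain ⟨m, hm, e⟩ := hM (g • w) w
    refine ⟨⟨m * g, by rw [mem_stabilizer_iff, mul_smul, e]⟩, ?_⟩
    change ((m * g : G) : G ⧸ M) = g
    rw [QuotientGroup.mk_mul, (QuotientGroup.eq_one_iff m).2 hm, one_mul]
  have e1 := classInner_comp_of_surjective _ hs (fun _ => 1) f₀
  have e2 := classInner_comp_of_surjective (QuotientGroup.mk' M) (QuotientGroup.mk'_surjective M) (fun _ => 1) f₀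
  exact (isIrrCharacter_one.eq_of_classInner_ne_zero hf fun e => h (e1.trans (e2.symm.trans e))).symm

end D4x

open D4x

theorem d4 : D4.{u,v} := by
  intro G Ω _ _ _ _ p q t Δ l _ h hl h1 hM χ hχ hψ h0
  classical
  have hp := h.hp
  let C := centralizer ({t ^ p} : Set G)
  have ht : t ∈ C := mem_centralizer_singleton_iff.2 (Commute.self_pow t p)
  have hz : t ^ p ∈ C := pow_mem ht p
  have ho := hl.ord ht
  set I := (Finset.range (p ^ 2)).filter (fun a => ¬ p ∣ a) with hI
  have hψ' := sub_sum I (lp l) (hψ.restrict C) (fun a _ => lp_irr l a) (fun a ha b hb e => by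
    have e' : l ⟨t, ht⟩ ^ a = l ⟨t, ht⟩ ^ b := Units.ext (congrFun e ⟨t, ht⟩)
    exact pow_injOn_Iio_orderOf (ho ▸ Finset.mem_range.1 (Finset.mem_filter.1 ha).1)
      (ho ▸ Finset.mem_range.1 (Finset.mem_filter.1 hb).1) e') fun a ha => by
    have := classInner_sub_left (fun x : C => pc G Ω x) (fun x : C => χ x) (lp l a)
    rw [h1 a (Finset.mem_filter.1 ha).2, h0 a (Finset.mem_filter.1 ha).2, sub_zero] at this
    exact fun e => one_ne_zero (this.symm.trans e)
  have hw : l ⟨t ^ p, hz⟩ = l ⟨t, ht⟩ ^ p := map_pow l ⟨t, ht⟩ p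
  have w1 : ((l ⟨t ^ p, hz⟩ : ℂˣ) : ℂ) ^ p = 1 := by
    rw [← Units.val_pow_eq_pow_val, hw, ← pow_mul, ← pow_two, hl.pw, Units.val_one]
  have w2 : ((l ⟨t ^ p, hz⟩ : ℂˣ) : ℂ) ≠ 1 := fun e => by
    have := orderOf_dvd_of_pow_eq_one (hw.symm.trans (Units.ext e))
    rw [ho] at this
    have := Nat.le_of_dvd hp.pos this
    nlinarith [hp.two_le]
  have p1 : pc G Ω 1 = (2 * p * q : ℕ) := by
    rw [pc, fixedBy_one_eq_univ, ← h.card, Nat.card_congr (Equiv.Set.univ Ω)]
  have pz : pc G Ω (t ^ p) = (Δᶜ.ncard : ℕ) := by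
    have : fixedBy Ω (t ^ p) = Δᶜ := Set.ext fun a => by
      rw [mem_fixedBy, Set.mem_compl_iff, ← h.fixB]
      exact ⟨fun e b hb => zpowers_le.2 (mem_stabilizer_iff.2 e) hb, fun e => e _ (mem_zpowers _)⟩
    rw [pc, this, Nat.card_coe_set_eq]
  have hφ := (hχ.restrict C).add hψ'
  have hk : (⟨t ^ p, hz⟩ : C) ∈ charKer ((fun x : C => χ x) + ((fun x : C => (pc G Ω - χ) x) - ∑ a ∈ I, lp l a)) := by
    rw [hφ.mem_charKer]
    have g := geom hp w1 w2
    have c := congrArg (Nat.cast : ℕ → ℂ) h.cardG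
    rw [Finset.sum_sub_distrib] at g
    simp only [Pi.add_apply, Pi.sub_apply, Finset.sum_apply, lp, coe_one, map_one, one_pow, Units.val_one,
      Units.val_pow_eq_pow_val, p1, pz]
    push_cast at c ⊢
    linear_combination c + g
  rw [charKer_add (hχ.restrict C) hψ'] at hk
  have hzk : t ^ p ∈ charKer χ := hχ.mem_charKer.2 ((hχ.restrict C).mem_charKer.1 hk.1)
  have := hχ.charKer_normal
  have hMk : normalClosure ({t ^ p} : Set G) ≤ charKer χ := normalClosure_le_normal (Set.singleton_subset_iff.2 hzk)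
  obtain ⟨w, -⟩ := h.neG
  obtain ⟨a, ha⟩ := exc_char_coeffs hχ
  refine ⟨a (irrOne G), ha.trans ?_⟩
  rw [Finset.sum_eq_single (irrOne G)]
  · funext g; simp [coe_irrOne]
  · intro f _ hf
    have e : classInner χ f = a f := by
      conv_lhs => rw [ha]
      simp only [classInner_sum_left, classInner_smul_left, classInner_irr]
      simp
    by_contra k
    have k1 : classInner χ f ≠ 0 := fun e' => k (by rw [← e, e', zero_smul])
    refine hf (Subtype.ext (triv w _ hM f.2 (hMk.trans (hχ.charKer_le_of_classInner_ne_zero f.2 k1)) fun e' => ?_))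
    obtain ⟨m, hm⟩ := hχ.exists_nat_classInner f.2.isCharacter
    obtain ⟨n, hn⟩ := hψ.exists_nat_classInner f.2.isCharacter
    rw [classInner_sub_left, e', hm, zero_sub, neg_eq_iff_add_eq_zero] at hn
    norm_cast at hn
    exact k1 (by rw [hm, show m = 0 by omega, Nat.cast_zero])
  · simp

end CL.EQ
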