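import Cfsg.Agent.Grp.Coprime
import Cfsg.Agent.Grp.SylowIn
import Cfsg.Agent.Char.Exceptional
import Cfsg.Agent.Char.Kernel
import Cfsg.Agent.Char.Constituent

/-!
Project EQ (S3579): a transitive group of degree `2pq` has a derangement of prime order.
Definitions and the statements of the steps.
-/

set_option autoImplicit false

open Cfsg CL.Grp MulAction Subgroup

namespace CL.EQ

universe u v

/-- elementary abelian `p`-subgroup -/
def EA {G : Type u} [Group G] (p : ℕ) (B : Subgroup G) : Prop :=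
  (∀ a ∈ B, ∀ b ∈ B, a * b = b * a) ∧ ∀ a ∈ B, a ^ p = 1

/-- the `B`-orbit of `a` -/
def orb {G : Type u} {Ω : Type v} [Group G] [MulAction G Ω] (B : Subgroup G) (a : Ω) : Set Ω :=
  {x | ∃ b ∈ B, b • a = x}

/-- the length of the `B`-orbit of `a` -/
noncomputable def osz {G : Type u} {Ω : Type v} [Group G] [MulAction G Ω] (B : Subgroup G) (a : Ω) : ℕ :=
  (stabilizer G a).relIndex B

/-- a counterexample: faithful, transitive of degree `2pq`, every element of prime order fixes a point -/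
structure Hyp (G : Type u) (Ω : Type v) [Group G] [MulAction G Ω] (p q : ℕ) : Prop where
  faith : ∀ g : G, (∀ a : Ω, g • a = a) → g = 1
  tr : ∀ a b : Ω, ∃ g : G, g • a = b
  hp : p.Prime
  hq : q.Prime
  q3 : 3 ≤ q
  qp : q < p
  p5 : 5 ≤ p
  card : Nat.card Ω = 2 * p * q
  el : ∀ g : G, (orderOf g).Prime → ∃ a : Ω, g • a = a

/-- large elementary abelian subgroups of `P` lie in `B` -/
def WW {G : Type u} [Group G] (p : ℕ) (P B : Subgroup G) : Prop :=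
  ∀ A : Subgroup G, A ≤ P → EA p A → Nat.card B ≤ p * Nat.card A → A ≤ B

/-- all point stabilisers in `B` are conjugate under the normaliser of `B` -/
def CJS {G : Type u} (Ω : Type v) [Group G] [MulAction G Ω] (B : Subgroup G) : Prop :=
  ∀ a b : Ω, ∃ n ∈ normalizer (B : Set G), ∀ x ∈ B, (x • a = a ↔ (n * x * n⁻¹) • b = b)

/-- Case B: the Sylow subgroup `P` has an orbit `Δ` of length `p^2` -/
structure CB (G : Type u) (Ω : Type v) [Group G] [MulAction G Ω] (p q : ℕ) (P B : Subgroup G) (Δ : Set Ω) :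
    Prop extends Hyp G Ω p q where
  syl : IsSylowIn p P ⊤
  le : B ≤ P
  ea : EA p B
  nrm : P ≤ normalizer (B : Set G)
  cardP : Nat.card P = p * Nat.card B
  cardD : Δ.ncard = p ^ 2
  trD : ∀ a ∈ Δ, ∀ b ∈ Δ, ∃ x ∈ P, x • a = b
  invD : ∀ x ∈ P, ∀ a ∈ Δ, x • a ∈ Δ
  stD : ∀ x ∈ P, ∀ a ∈ Δ, x • a = a → x ∈ B
  oszD : ∀ a ∈ Δ, osz B a = p
  oszG : ∀ a : Ω, a ∉ Δ → osz P a = p
  cardG : Δᶜ.ncard + p ^ 2 = 2 * p * q
  neG : ∃ a : Ω, a ∉ Δ

/-- Case C: moreover `B` is the stabiliser in `P` of every point outside `Δ` -/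
structure CC (G : Type u) (Ω : Type v) [Group G] [MulAction G Ω] (p q : ℕ) (P B : Subgroup G) (Δ : Set Ω) :
    Prop extends CB G Ω p q P B Δ where
  w : WW p P B
  stG : ∀ x ∈ P, ∀ a : Ω, a ∉ Δ → (x • a = a ↔ x ∈ B)
  sylG : ∀ a : Ω, a ∉ Δ → IsSylowIn p B (stabilizer G a)
  fixB : ∀ a : Ω, (∀ b ∈ B, b • a = a) ↔ a ∉ Δ
  witt : ∀ a : Ω, a ∉ Δ → ∀ b : Ω, b ∉ Δ → ∃ n ∈ normalizer (B : Set G), n • a = b
  nD : ∀ n ∈ normalizer (B : Set G), ∀ a : Ω, (n • a ∈ Δ ↔ a ∈ Δ)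
  pw : ∀ x ∈ P, x ∉ B → x ^ p ≠ 1

/-- Case C1: `P = ⟨t⟩` is cyclic of order `p^2` and regular on `Δ` -/
structure CY (G : Type u) (Ω : Type v) [Group G] [MulAction G Ω] (p q : ℕ) (t : G) (Δ : Set Ω) :
    Prop extends CC G Ω p q (zpowers t) (zpowers (t ^ p)) Δ where
  ord : orderOf t = p ^ 2
  regD : ∀ x ∈ zpowers t, ∀ a ∈ Δ, x • a = a → x = 1

/-- Lemma K -/
def LK : Prop := ∀ (G : Type u) (Ω : Type v) [Group G] [Finite G] [MulAction G Ω] [Finite Ω] (p q : ℕ)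
  (B : Subgroup G), Hyp G Ω p q → p < 2 * q → EA p B → (∀ a : Ω, osz B a = p) →
  (∀ a b : Ω, ∃ n ∈ normalizer (B : Set G), n • a = b) → False

/-- Lemma T -/
def LT : Prop := ∀ (G : Type u) (Ω : Type v) [Group G] [Finite G] [MulAction G Ω] [Finite Ω] (p q : ℕ)
  (B : Subgroup G), Hyp G Ω p q → EA p B → (∀ a : Ω, osz B a = p) → CJS Ω B →
  p < 2 * q ∧ ∀ a b : Ω, ∃ n ∈ normalizer (B : Set G), n • a = b

/-- conjugacy of the stabilisers -/
def CJ : Prop := ∀ (G : Type u) (Ω : Type v) [Group G] [Finite G] [MulAction G Ω] [Finite Ω] (p q : ℕ)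
  (P B : Subgroup G) (c : Ω), Hyp G Ω p q → IsSylowIn p P ⊤ → B ≤ P → EA p B → (∀ a : Ω, osz B a = p) →
  WW p P B → osz P c = p → CJS Ω B

/-- reduction to Case B -/
def RB : Prop := ∀ (G : Type u) (Ω : Type v) [Group G] [Finite G] [MulAction G Ω] [Finite Ω] (p q : ℕ),
  Hyp G Ω p q → ∃ (P B : Subgroup G) (Δ : Set Ω), CB G Ω p q P B Δ

/-- trivial norm -/
def NT : Prop := ∀ (G : Type u) [Group G] [Finite G] (p : ℕ) (B : Subgroup G) (t : G), p.Prime → 5 ≤ p →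
  EA p B → t ∈ normalizer (B : Set G) → t ^ p = 1 →
  Nat.card B ≤ p ^ 2 * Nat.card (B ⊓ centralizer {t} : Subgroup G) → ∀ b ∈ B, (t * b) ^ p = 1

/-- property (W) in Case B -/
def WB : Prop := ∀ (G : Type u) (Ω : Type v) [Group G] [Finite G] [MulAction G Ω] [Finite Ω] (p q : ℕ)
  (P B : Subgroup G) (Δ : Set Ω), CB G Ω p q P B Δ → WW p P B

/-- reduction to Case C -/
def RC : Prop := ∀ (G : Type u) (Ω : Type v) [Group G] [Finite G] [MulAction G Ω] [Finite Ω] (p q : ℕ)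
  (P B : Subgroup G) (Δ : Set Ω), CB G Ω p q P B Δ → CC G Ω p q P B Δ

/-- Lemma S -/
def LS : Prop := ∀ (G : Type u) (Ω : Type v) [Group G] [Finite G] [MulAction G Ω] [Finite Ω] (p : ℕ)
  (K : Subgroup G) (b : G) (a : Ω), p.Prime → p ≠ 2 → ¬ p ∣ Nat.card K → b ^ p = 1 →
  b ∈ normalizer (K : Set G) → (∀ x ∈ orb K a, b • x ∈ orb K a) →
  {x | x ∈ orb K a ∧ b • x ≠ x}.ncard = p → p < osz K a → osz K a < 2 * p →
  osz K a = p + 1 ∧ ∃ e : ℕ, p + 1 = 2 ^ e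

/-- the centraliser of the stabiliser in `B` of `d` -/
def cD {G : Type u} {Ω : Type v} [Group G] [MulAction G Ω] (B : Subgroup G) (d : Ω) : Subgroup G :=
  centralizer ((B ⊓ stabilizer G d : Subgroup G) : Set G)

/-- the local facts of Case C2 at the point `d` -/
structure L2 {G : Type u} {Ω : Type v} [Group G] [MulAction G Ω] (p : ℕ) (B : Subgroup G) (Δ : Set Ω) (d : Ω) :
    Prop where
  syl : IsSylowIn p B (cD B d)
  fix : ∀ a ∈ Δ, ((∀ x ∈ B, x • d = d → x • a = a) ↔ a ∈ orb B d)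
  out : ∃ c ∈ cD B d, c • d ∉ Δ

def C2A : Prop := ∀ (G : Type u) (Ω : Type v) [Group G] [Finite G] [MulAction G Ω] [Finite Ω] (p q : ℕ)
  (P B : Subgroup G) (Δ : Set Ω), CC G Ω p q P B Δ → p < Nat.card B → ∀ d ∈ Δ, L2 p B Δ d

/-- elements of order `p` of the centraliser act off `Γ ∪ β` like elements of the stabiliser -/
def C2B : Prop := ∀ (G : Type u) (Ω : Type v) [Group G] [Finite G] [MulAction G Ω] [Finite Ω] (p q : ℕ)
  (P B : Subgroup G) (Δ : Set Ω), CC G Ω p q P B Δ → ∀ d ∈ Δ, L2 p B Δ d →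
  ∀ x ∈ cD B d, x ^ p = 1 → ∀ a ∈ Δ, a ∉ orb B d → ∃ y ∈ B, y • d = d ∧ x • a = y • a

/-- no `p`-cycle in `B` -/
def C2C : Prop := ∀ (G : Type u) (Ω : Type v) [Group G] [Finite G] [MulAction G Ω] [Finite Ω] (p q : ℕ)
  (P B : Subgroup G) (Δ : Set Ω), CC G Ω p q P B Δ → ∀ d ∈ Δ, ∀ w ∈ B,
  (∀ a ∈ Δ, a ∉ orb B d → w • a = a) → w = 1

/-- the union of `β` and a translate has `p + 1` points -/
def C2D : Prop := ∀ (G : Type u) (Ω : Type v) [Group G] [Finite G] [MulAction G Ω] [Finite Ω] (p q : ℕ)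
  (P B : Subgroup G) (Δ : Set Ω), CC G Ω p q P B Δ → ∀ d ∈ Δ, L2 p B Δ d →
  ∀ c ∈ cD B d, (fun a => c • a) '' orb B d ≠ orb B d →
  (orb B d ∪ (fun a => c • a) '' orb B d).ncard = p + 1 ∧ ∃ e : ℕ, p + 1 = 2 ^ e

/-- Case C2 is impossible -/
def C2 : Prop := ∀ (G : Type u) (Ω : Type v) [Group G] [Finite G] [MulAction G Ω] [Finite Ω] (p q : ℕ)
  (P B : Subgroup G) (Δ : Set Ω), CC G Ω p q P B Δ → p < Nat.card B → False

/-- reduction to the cyclic case -/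
def RY : Prop := ∀ (G : Type u) (Ω : Type v) [Group G] [Finite G] [MulAction G Ω] [Finite Ω] (p q : ℕ)
  (P B : Subgroup G) (Δ : Set Ω), CC G Ω p q P B Δ → Nat.card B ≤ p → ∃ t : G, CY G Ω p q t Δ

/-- `K` is a normal `p`-complement of `U` over `⟨t⟩` -/
structure NC {G : Type u} [Group G] (p : ℕ) (t : G) (U K : Subgroup G) : Prop where
  le : K ≤ U
  nrm : U ≤ normalizer (K : Set G)
  cop : ¬ p ∣ Nat.card K
  dec : ∀ w ∈ U, ∃ k ∈ K, ∃ j : ℕ, w = k * t ^ j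
  mem : ∀ w ∈ U, ¬ p ∣ orderOf w → w ∈ K

/-- Burnside's transfer theorem for a cyclic Sylow subgroup of order `p^2` -/
def BU : Prop := ∀ (G : Type u) [Group G] [Finite G] (p : ℕ) (t : G) (U : Subgroup G), p.Prime →
  orderOf t = p ^ 2 → IsSylowIn p (zpowers t) U →
  (∀ n ∈ U, n ∈ normalizer ((zpowers t : Subgroup G) : Set G) →
    n * t ^ p * n⁻¹ = t ^ p ∨ n * t * n⁻¹ * t⁻¹ ∈ zpowers (t ^ p)) → ∃ K : Subgroup G, NC p t U K

/-- `p'`-subgroups normalised by `t` fix `Δ`; the pointwise stabiliser of `Γ` is `Z` -/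
def FX : Prop := ∀ (G : Type u) (Ω : Type v) [Group G] [Finite G] [MulAction G Ω] [Finite Ω] (p q : ℕ)
  (t : G) (Δ : Set Ω), CY G Ω p q t Δ →
  (∀ K : Subgroup G, ¬ p ∣ Nat.card K → t ∈ normalizer (K : Set G) → (∀ k ∈ K, ∀ a ∈ Δ, k • a ∈ Δ) →
    ∀ k ∈ K, ∀ a ∈ Δ, k • a = a) ∧
  ∀ g : G, (∀ a : Ω, a ∉ Δ → g • a = a) → g ∈ zpowers (t ^ p)

/-- the normal closure of `Z` is transitive -/
def MT : Prop := ∀ (G : Type u) (Ω : Type v) [Group G] [Finite G] [MulAction G Ω] [Finite Ω] (p q : ℕ)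
  (t : G) (Δ : Set Ω), CY G Ω p q t Δ → ∀ a b : Ω, ∃ m ∈ normalClosure ({t ^ p} : Set G), m • a = b

/-- the linear character of `C = C_G(t^p)` with kernel `O_{p'}(C)` -/
structure Lam {G : Type u} (Ω : Type v) [Group G] [MulAction G Ω] (p : ℕ) (t : G) (Δ : Set Ω)
    (l : centralizer ({t ^ p} : Set G) →* ℂˣ) : Prop where
  ord : ∀ h : t ∈ centralizer ({t ^ p} : Set G), orderOf (l ⟨t, h⟩) = p ^ 2
  pw : ∀ x, l x ^ (p ^ 2) = 1
  card : Nat.card (centralizer ({t ^ p} : Set G)) = p ^ 2 * Nat.card l.ker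
  fixD : ∀ x : centralizer ({t ^ p} : Set G), ∀ a ∈ Δ, ((x : G) • a = a ↔ l x = 1)
  fixG : ∀ x : centralizer ({t ^ p} : Set G), ∀ a : Ω, a ∉ Δ → (x : G) • a = a → l x ^ p = 1
  ti : ∀ x : centralizer ({t ^ p} : Set G), l x ≠ 1 → ∀ g : G, g * x * g⁻¹ ∈ centralizer ({t ^ p} : Set G) →
    g ∈ normalizer ((zpowers (t ^ p) : Subgroup G) : Set G)
  cnj : ∀ n ∈ normalizer ((zpowers (t ^ p) : Subgroup G) : Set G), ∃ e : ℕ, ¬ p ∣ e ∧
    (e ≡ 1 [MOD p] → n ∈ centralizer ({t ^ p} : Set G)) ∧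
    ∀ x : centralizer ({t ^ p} : Set G), ∃ h : n * x * n⁻¹ ∈ centralizer ({t ^ p} : Set G),
      l ⟨n * x * n⁻¹, h⟩ = l x ^ e

def LAM : Prop := ∀ (G : Type u) (Ω : Type v) [Group G] [Finite G] [MulAction G Ω] [Finite Ω] (p q : ℕ)
  (t : G) (Δ : Set Ω), CY G Ω p q t Δ → ∃ l : centralizer ({t ^ p} : Set G) →* ℂˣ, Lam Ω p t Δ l

/-- the `a`-th power of a linear character as a function -/
def lp {C : Type u} [Group C] (l : C →* ℂˣ) (a : ℕ) : C → ℂ := fun x => ((l x ^ a : ℂˣ) : ℂ)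

/-- the permutation character -/
noncomputable def pc (G : Type u) (Ω : Type v) [Group G] [MulAction G Ω] : G → ℂ :=
  fun g => (Nat.card (fixedBy Ω g) : ℂ)

/-- the induced virtual character `(l^a - l^p)^G` -/
noncomputable def th {G : Type u} [Group G] [Fintype G] {C : Subgroup G} (l : C →* ℂˣ) (p a : ℕ) : G → ℂ :=
  indFun C (lp l a - lp l p)

/-- inner products of the induced virtual characters -/
def D1 : Prop := ∀ (G : Type u) (Ω : Type v) [Group G] [Fintype G] [MulAction G Ω] [Finite Ω] (p q : ℕ)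
  (t : G) (Δ : Set Ω) (l : centralizer ({t ^ p} : Set G) →* ℂˣ), CY G Ω p q t Δ → Lam Ω p t Δ l →
  ∀ a b : ℕ, ¬ p ∣ a → ¬ p ∣ b →
    (classInner (th l p a) (th l p b) = 1 ∨ classInner (th l p a) (th l p b) = 2) ∧
    (a = b → classInner (th l p a) (th l p b) = 2) ∧
    (a ≡ b [MOD p] → ¬ a ≡ b [MOD p ^ 2] → classInner (th l p a) (th l p b) = 1)

/-- multiplicities in the permutation character -/
def D2 : Prop := ∀ (G : Type u) (Ω : Type v) [Group G] [Fintype G] [MulAction G Ω] [Finite Ω] (p q : ℕ)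
  (t : G) (Δ : Set Ω) (l : centralizer ({t ^ p} : Set G) →* ℂˣ) [Fintype (centralizer ({t ^ p} : Set G))],
  CY G Ω p q t Δ → Lam Ω p t Δ l →
  (∀ a : ℕ, ¬ p ∣ a → classInner (fun x : centralizer ({t ^ p} : Set G) => pc G Ω x) (lp l a) = 1) ∧
  (∃ R : ℕ, 2 ≤ R ∧ classInner (fun x : centralizer ({t ^ p} : Set G) => pc G Ω x) (lp l p) = R ∧
    (R = 2 → ∀ a : Ω, a ∉ Δ → ∀ b : Ω, b ∉ Δ → ∃ c ∈ centralizer ({t ^ p} : Set G), c • a = b)) ∧
  classInner (pc G Ω) (fun _ => 1) = 1 ∧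
  (classInner (pc G Ω) (pc G Ω) = 2 →
    ∀ a b c d : Ω, a ≠ b → c ≠ d → ∃ g : G, g • a = c ∧ g • b = d)

/-- the abstract character-theoretic step -/
def D3 : Prop := ∀ (G : Type u) [Group G] [Fintype G] (C : Subgroup G) [Fintype C] (π : G → ℂ)
  (I : Set ℕ) (lam : ℕ → C → ℂ) (mu : C → ℂ) (R : ℕ) (a₁ a₂ a₃ : ℕ),
  IsCharacter G π → (∀ a ∈ I, IsCharacter C (lam a)) → IsCharacter C mu → (∀ a ∈ I, lam a 1 = mu 1) →
  (∀ a ∈ I, classInner (indFun C (lam a - mu)) (indFun C (lam a - mu)) = 2) →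
  (∀ a ∈ I, ∀ b ∈ I, classInner (indFun C (lam a - mu)) (indFun C (lam b - mu)) = 1 ∨
    classInner (indFun C (lam a - mu)) (indFun C (lam b - mu)) = 2) →
  a₁ ∈ I → a₂ ∈ I → a₃ ∈ I →
  classInner (indFun C (lam a₁ - mu)) (indFun C (lam a₂ - mu)) = 1 →
  classInner (indFun C (lam a₁ - mu)) (indFun C (lam a₃ - mu)) = 1 →
  classInner (indFun C (lam a₂ - mu)) (indFun C (lam a₃ - mu)) = 1 →
  (∀ a ∈ I, classInner (fun x : C => π x) (lam a) = 1) →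
  2 ≤ R → classInner (fun x : C => π x) mu = R →
  (∀ χ : G → ℂ, IsCharacter G χ → IsCharacter G (π - χ) →
    (∀ a ∈ I, classInner (fun x : C => χ x) (lam a) = 0) → ∃ c : ℂ, χ = fun _ => c) →
  classInner π (fun _ => 1) = 1 → classInner (fun _ : C => (1 : ℂ)) mu = 0 →
  classInner π π = 2 ∧ R = 2

/-- constituents of the permutation character without a faithful `l^a` are trivial -/
def D4 : Prop := ∀ (G : Type u) (Ω : Type v) [Group G] [Fintype G] [MulAction G Ω] [Finite Ω] (p q : ℕ)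
  (t : G) (Δ : Set Ω) (l : centralizer ({t ^ p} : Set G) →* ℂˣ) [Fintype (centralizer ({t ^ p} : Set G))],
  CY G Ω p q t Δ → Lam Ω p t Δ l →
  (∀ a : ℕ, ¬ p ∣ a → classInner (fun x : centralizer ({t ^ p} : Set G) => pc G Ω x) (lp l a) = 1) →
  (∀ a b : Ω, ∃ m ∈ normalClosure ({t ^ p} : Set G), m • a = b) →
  ∀ χ : G → ℂ, IsCharacter G χ → IsCharacter G (pc G Ω - χ) →
    (∀ a : ℕ, ¬ p ∣ a → classInner (fun x : centralizer ({t ^ p} : Set G) => χ x) (lp l a) = 0) →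
    ∃ c : ℂ, χ = fun _ => c

/-- outcome of the character theory -/
def CH : Prop := ∀ (G : Type u) (Ω : Type v) [Group G] [Finite G] [MulAction G Ω] [Finite Ω] (p q : ℕ)
  (t : G) (Δ : Set Ω), CY G Ω p q t Δ →
  (∀ a b c d : Ω, a ≠ b → c ≠ d → ∃ g : G, g • a = c ∧ g • b = d) ∧
  ∀ a : Ω, a ∉ Δ → ∀ b : Ω, b ∉ Δ → ∃ c ∈ centralizer ({t ^ p} : Set G), c • a = b

def E1 : Prop := ∀ (G : Type u) (Ω : Type v) [Group G] [Finite G] [MulAction G Ω] [Finite Ω] (p q : ℕ)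
  (t : G) (Δ : Set Ω), CY G Ω p q t Δ →
  (∀ a b c d : Ω, a ≠ b → c ≠ d → ∃ g : G, g • a = c ∧ g • b = d) →
  (∀ a : Ω, a ∉ Δ → ∀ b : Ω, b ∉ Δ → ∃ c ∈ centralizer ({t ^ p} : Set G), c • a = b) →
  centralizer ({t ^ p} : Set G) ≤ zpowers t ∧ 2 * q = p + 1 ∧
  ∀ a : Ω, a ∉ Δ → ∀ b : Ω, b ∉ Δ → a ≠ b → ∀ n ∈ normalizer ((zpowers (t ^ p) : Subgroup G) : Set G),
    n • a = a → n • b = b → n ∈ zpowers (t ^ p)

def E2 : Prop := ∀ (G : Type u) (Ω : Type v) [Group G] [Finite G] [MulAction G Ω] [Finite Ω] (p q : ℕ)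
  (t : G) (Δ : Set Ω), CY G Ω p q t Δ →
  (∀ a b c d : Ω, a ≠ b → c ≠ d → ∃ g : G, g • a = c ∧ g • b = d) →
  centralizer ({t ^ p} : Set G) ≤ zpowers t → 2 * q = p + 1 →
  (∀ a : Ω, a ∉ Δ → ∀ b : Ω, b ∉ Δ → a ≠ b → ∀ n ∈ normalizer ((zpowers (t ^ p) : Subgroup G) : Set G),
    n • a = a → n • b = b → n ∈ zpowers (t ^ p)) →
  (∀ g : G, (∀ a : Ω, a ∉ Δ → g • a = a) → g ∈ zpowers (t ^ p)) → False

end CL.EQ
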