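import Cfsg.Agent.EQ.Basic

/-! Project EQ: step E1 (the centraliser of `t ^ p` is `⟨t⟩`, and `2q = p + 1`). -/

set_option autoImplicit false
set_option linter.style.haveILetI false

open Cfsg CL.Grp MulAction Subgroup

namespace CL.EQ

universe u v

namespace E1x

variable {G : Type u} {Ω : Type v} [Group G] [MulAction G Ω]

theorem mem_C {z x : G} : x ∈ centralizer ({z} : Set G) ↔ z * x = x * z := by
  rw [mem_centralizer_iff]; simp

theorem C_le_N (z : G) : centralizer ({z} : Set G) ≤ normalizer ((zpowers z : Subgroup G) : Set G) := by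
  intro x hx
  have hc : Commute z x := mem_C.mp hx
  rw [mem_normalizer_iff]
  intro h
  constructor
  · rintro ⟨k, rfl⟩
    refine ⟨k, ?_⟩
    change z ^ k = x * z ^ k * x⁻¹
    rw [← (hc.zpow_left k).eq]; group
  · rintro ⟨k, hk⟩
    refine ⟨k, ?_⟩
    change z ^ k = x * h * x⁻¹ at hk
    change z ^ k = h
    calc z ^ k = x⁻¹ * (x * z ^ k) := by group
      _ = x⁻¹ * (z ^ k * x) := by rw [(hc.zpow_left k).eq]
      _ = h := by rw [hk]; group

theorem conj_mem_C {z n x : G} (hn : n ∈ normalizer ((zpowers z : Subgroup G) : Set G))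
    (hx : x ∈ centralizer ({z} : Set G)) : n * x * n⁻¹ ∈ centralizer ({z} : Set G) := by
  have hc : Commute z x := mem_C.mp hx
  obtain ⟨k, hk⟩ : n⁻¹ * z * n⁻¹⁻¹ ∈ zpowers z :=
    (mem_normalizer_iff.mp ((normalizer _).inv_mem hn) z).mp (mem_zpowers z)
  change z ^ k = _ at hk
  rw [mem_C]
  calc z * (n * x * n⁻¹) = n * ((n⁻¹ * z * n⁻¹⁻¹) * x) * n⁻¹ := by group
    _ = n * (x * (n⁻¹ * z * n⁻¹⁻¹)) * n⁻¹ := by rw [← hk, (hc.zpow_left k).eq]
    _ = _ := by group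

theorem two_trans [Finite G] {p q : ℕ} {t : G} {Δ : Set Ω} (h : CY G Ω p q t Δ)
    (h2 : ∀ a b c d : Ω, a ≠ b → c ≠ d → ∃ g : G, g • a = c ∧ g • b = d)
    {a b c d : Ω} (ha : a ∉ Δ) (hb : b ∉ Δ) (hc : c ∉ Δ) (hd : d ∉ Δ) (hab : a ≠ b) (hcd : c ≠ d) :
    ∃ n ∈ normalizer ((zpowers (t ^ p) : Subgroup G) : Set G), n • a = c ∧ n • b = d := by
  obtain ⟨g, h1, h3⟩ := h2 a b c d hab hcd
  have hs : IsSylowIn p (zpowers (t ^ p)) (stabilizer G ((c, d) : Ω × Ω)) := by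
    refine (h.sylG c hc).of_le ?_ ?_
    · intro x hx
      rw [mem_stabilizer_iff]
      exact Prod.ext ((h.fixB c).mpr hc x hx) ((h.fixB d).mpr hd x hx)
    · intro x hx
      exact congrArg Prod.fst (mem_stabilizer_iff.mp hx)
  obtain ⟨n, hn, e⟩ := witt (X := Ω × Ω) h.hp (x := (a, b)) (y := (c, d)) (g := g) (Prod.ext h1 h3) hs
    (fun x hx => Prod.ext ((h.fixB a).mpr ha x hx) ((h.fixB b).mpr hb x hx))
  exact ⟨n, hn, congrArg Prod.fst e, congrArg Prod.snd e⟩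

theorem zpow_mem {p : ℕ} {t : G} (ho : orderOf t = p ^ 2) {i : ℤ} (hi : t ^ i ∈ zpowers (t ^ p)) :
    (p : ℤ) ∣ i := by
  obtain ⟨k, hk⟩ := hi
  change (t ^ p) ^ k = t ^ i at hk
  rw [← zpow_natCast, ← zpow_mul, zpow_eq_zpow_iff_modEq, ho] at hk
  obtain ⟨m, hm⟩ := hk.dvd
  refine ⟨k + p * m, ?_⟩
  push_cast at hm
  linear_combination hm

theorem C_le [Finite G] [Finite Ω] (h1 : BU.{u}) (hF : FX.{u, v}) {p q : ℕ} {t : G} {Δ : Set Ω}
    (h : CY G Ω p q t Δ)
    (h2 : ∀ a b c d : Ω, a ≠ b → c ≠ d → ∃ g : G, g • a = c ∧ g • b = d) :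
    centralizer ({t ^ p} : Set G) ≤ zpowers t := by
  have htC : zpowers t ≤ centralizer ({t ^ p} : Set G) := by
    rw [zpowers_le, mem_C, ← pow_succ, ← pow_succ']
  obtain ⟨K, hK⟩ := h1 G p t (centralizer ({t ^ p} : Set G)) h.hp h.ord (h.syl.of_le htC le_top)
    (fun n hn _ => Or.inl (by rw [← mem_C.mp hn]; group))
  have hoK : ∀ k ∈ K, ¬ p ∣ orderOf k := fun k hk hd => hK.cop (hd.trans (orderOf_dvd_natCard K hk))
  have hNK : ∀ n ∈ normalizer ((zpowers (t ^ p) : Subgroup G) : Set G), ∀ k ∈ K, n * k * n⁻¹ ∈ K := by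
    intro n hn k hk
    refine hK.mem _ (conj_mem_C hn (hK.le hk)) ?_
    have : orderOf (n * k * n⁻¹) = orderOf k := (MulAut.conj n).orderOf_eq k
    rw [this]; exact hoK k hk
  have hpG : p ∣ Δᶜ.ncard := by
    have e := h.cardG
    have : p ∣ Δᶜ.ncard + p ^ 2 := by rw [e]; exact (dvd_mul_left p 2).mul_right q
    exact (Nat.dvd_add_left (dvd_pow_self p two_ne_zero)).mp this
  have hfix : ∀ k ∈ K, ∀ c : Ω, c ∉ Δ → k • c = c := by
    intro k hk c hc
    by_contra hne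
    have hout : ∀ k ∈ K, k • c ∉ Δ := fun k hk hd => hc ((h.nD k (C_le_N _ (hK.le hk)) c).mp hd)
    have e : orb K c = Δᶜ := by
      ext x
      constructor
      · rintro ⟨b, hb, rfl⟩; exact hout b hb
      · intro hx
        by_cases hxc : c = x
        · exact hxc ▸ self_mem_orb K c
        · obtain ⟨n, hn, e1, e2⟩ := two_trans h h2 hc (hout k hk) hc hx (Ne.symm hne) hxc
          refine ⟨n * k * n⁻¹, hNK n hn k hk, ?_⟩
          rw [mul_smul, mul_smul, inv_smul_eq_iff.mpr e1.symm, e2]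
    exact hK.cop ((by rw [osz_eq_ncard, e]; exact hpG : p ∣ osz K c).trans (osz_dvd_card K c))
  have hbot : ∀ k ∈ K, k = 1 := by
    intro k hk
    have hz := (hF G Ω p q t Δ h).2 k (hfix k hk)
    have hp1 : k ^ p = 1 := h.ea.2 k hz
    rcases (Nat.dvd_prime h.hp).mp (orderOf_dvd_of_pow_eq_one hp1) with e | e
    · exact orderOf_eq_one_iff.mp e
    · exact absurd (e ▸ dvd_rfl) (hoK k hk)
  intro w hw
  obtain ⟨k, hk, j, rfl⟩ := hK.dec w hw
  rw [hbot k hk, one_mul]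
  exact pow_mem (mem_zpowers t) j

end E1x

open E1x in
theorem e1 (h1 : BU.{u}) (h2 : FX.{u, v}) : E1.{u, v} := by
  intro G Ω _ _ _ _ p q t Δ h h2t hC
  have hle := C_le h1 h2 h h2t
  refine ⟨hle, ?_, ?_⟩
  · obtain ⟨c, hc⟩ := h.neG
    have e : orb (zpowers t) c = Δᶜ := by
      ext x
      constructor
      · rintro ⟨b, hb, rfl⟩ hd
        exact hc ((h.nD b (h.nrm hb) c).mp hd)
      · intro hx
        obtain ⟨y, hy, e⟩ := hC c hc x hx
        exact ⟨y, hle hy, e⟩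
    have e1 := h.oszG c hc
    rw [osz_eq_ncard, e] at e1
    have e2 := h.cardG
    rw [e1] at e2
    apply Nat.eq_of_mul_eq_mul_left h.hp.pos
    nlinarith
  · intro a ha b hb hab n hn hna hnb
    obtain ⟨y, hy, rfl⟩ := hC a ha b hb
    obtain ⟨j, rfl⟩ := hle hy
    have htC : t ∈ centralizer ({t ^ p} : Set G) := by rw [mem_C, ← pow_succ, ← pow_succ']
    obtain ⟨e, he⟩ := hle (conj_mem_C hn htC)
    change t ^ e = _ at he
    simp only at hab hnb
    have hj : ¬ (p : ℤ) ∣ j := by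
      rintro ⟨m, rfl⟩
      apply hab
      symm
      refine (h.fixB a).mpr ha _ ⟨m, ?_⟩
      change (t ^ p) ^ m = _
      rw [zpow_mul, zpow_natCast]
    have e1 : n * t ^ j * n⁻¹ = t ^ (e * j) := by rw [zpow_mul, he, conj_zpow]
    have e2 : t ^ (e * j) • a = t ^ j • a := by
      rw [← e1, mul_smul, mul_smul, inv_smul_eq_iff.mpr hna.symm, hnb]
    have e3 : t ^ (-j + e * j) • a = a := by
      rw [zpow_add, mul_smul, e2, zpow_neg, inv_smul_smul]
    have e4 := zpow_mem h.ord ((h.stG _ (zpow_mem_zpowers t _) a ha).mp e3)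
    have hp' : Prime (p : ℤ) := Nat.prime_iff_prime_int.mp h.hp
    have e5 : (p : ℤ) ∣ e - 1 := by
      rcases hp'.dvd_or_dvd (show (p : ℤ) ∣ (e - 1) * j by convert e4 using 1; ring) with h3 | h3
      · exact h3
      · exact absurd h3 hj
    obtain ⟨m, hm⟩ := e5
    have e6 : n * t ^ p * n⁻¹ = t ^ p := by
      rw [← conj_pow, ← he, ← zpow_natCast, ← zpow_mul, ← zpow_natCast, zpow_eq_zpow_iff_modEq, h.ord]
      refine (Int.modEq_iff_dvd.mpr ⟨-m, ?_⟩)
      push_cast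
      linear_combination (-(p : ℤ)) * hm
    have hnC : n ∈ centralizer ({t ^ p} : Set G) := by
      rw [mem_C]
      calc t ^ p * n = n * t ^ p * n⁻¹ * n := by rw [e6]
        _ = _ := by group
    exact (h.stG n (hle hnC) a ha).mp hna

end CL.EQ
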