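/-
Project EQ (S3579), step E2 (helper99): the last configuration is impossible.
-/
import Cfsg.Agent.EQ.Basic
import Cfsg.Agent.Grp.Primitive

set_option autoImplicit false

open Cfsg CL.Grp MulAction Subgroup

namespace CL.EQ

universe u v

namespace E2x

variable {G : Type u} [Group G] [Finite G]

/-- Burnside's transfer theorem -/
theorem compl {p : ℕ} [Fact p.Prime] {Z D : Subgroup G} (hZ : IsSylowIn p Z D)
    (h : ∀ g ∈ D, g ∈ normalizer (Z : Set G) → g ∈ centralizer (Z : Set G)) :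
    ∃ K ≤ D, D ≤ normalizer (K : Set G) ∧ ¬ p ∣ Nat.card K ∧ Nat.card K * Nat.card Z = Nat.card D := by
  have hP : normalizer ((hZ.toSylow : Subgroup D) : Set D) ≤ centralizer ((hZ.toSylow : Subgroup D) : Set D) :=
    fun g hg => by
      have h1 : (g : G) ∈ normalizer (Z : Set G) := mem_normalizer_iff.2 fun x =>
        ⟨fun hx => (mem_normalizer_iff.1 hg ⟨x, hZ.le hx⟩).1 hx, fun hx => by
          have hxH : x ∈ D := by
            simpa [mul_assoc] using D.mul_mem (D.mul_mem (D.inv_mem g.2) (hZ.le hx)) g.2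
          exact (mem_normalizer_iff.1 hg ⟨x, hxH⟩).2 hx⟩
      exact fun x hx => Subtype.ext (h g g.2 h1 x hx)
  have c := MonoidHom.ker_transferSylow_isComplement' hZ.toSylow hP
  refine ⟨(MonoidHom.transferSylow hZ.toSylow hP).ker.map D.subtype, map_subtype_le _,
    (normal_subgroupOf_iff_le_normalizer (map_subtype_le _)).1 ?_, ?_, ?_⟩
  · rw [subgroupOf, comap_map_eq_self_of_injective (subtype_injective _)]
    infer_instance
  · rw [card_map_of_injective (subtype_injective _)]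
    exact MonoidHom.not_dvd_card_ker_transferSylow _ hP
  · rw [card_map_of_injective (subtype_injective _), ← c.card_mul,
      ← Nat.card_congr (subgroupOfEquivOfLe hZ.le).toEquiv]
    rfl

/-- an element of order `q` fixes two points -/
theorem two_fix {Ω : Type v} [MulAction G Ω] [Finite Ω] {p q : ℕ} (h : Hyp G Ω p q) :
    ∃ x : G, orderOf x = q ∧ ∃ c d : Ω, c ≠ d ∧ x • c = c ∧ x • d = d := by
  have := Fact.mk h.hq
  have : Nonempty Ω := Nat.card_pos_iff.1 (by
    rw [h.card]; exact Nat.mul_pos (Nat.mul_pos two_pos h.hp.pos) h.hq.pos) |>.1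
  obtain ⟨a⟩ := this
  obtain ⟨x, hx⟩ := exists_prime_orderOf_dvd_card' (G := G) q
    ((Dvd.intro_left _ (h.index_stab a).symm).trans (index_dvd_card _))
  obtain ⟨c, hc⟩ := h.el x (hx ▸ h.hq)
  have hX : IsPGroup q (zpowers x) := IsPGroup.of_card (n := 1) (by rw [Nat.card_zpowers, hx, pow_one])
  have cf : c ∈ fixedPoints (zpowers x) Ω := fun y => (zpowers_le.2 (show x ∈ stabilizer G c from hc)) y.2
  obtain ⟨d, hd, ne⟩ := hX.exists_fixed_point_of_prime_dvd_card_of_fixed_point Ω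
    (by rw [h.card]; exact Dvd.intro_left _ rfl) cf
  exact ⟨x, hx, c, d, ne, hc, hd ⟨x, mem_zpowers x⟩⟩

omit [Finite G] in
theorem num {p q m : ℕ} (q3 : 3 ≤ q) (p5 : 5 ≤ p) (e : 2 * q = p + 1) (m0 : m ≠ 0) (le : q ^ m ≤ 2 * p * q)
    (md : q ^ m ≡ 1 [MOD p]) : False := by
  have h1 : 2 * q ≡ 1 [MOD p] := by rw [e]; simp [Nat.ModEq]
  have h2 : 2 ^ m ≡ 1 [MOD p] := by
    have := (md.mul_left (2 ^ m)).symm
    rw [mul_one, ← mul_pow] at this
    exact this.trans (by simpa using h1.pow m)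
  have h3 : p ∣ 2 ^ m - 1 := (Nat.modEq_iff_dvd' Nat.one_le_two_pow).1 h2.symm
  have h4 : m < 4 := by
    by_contra c
    have a1 : q ^ 4 ≤ q ^ m := Nat.pow_le_pow_right (by omega) (by omega)
    have a2 : 9 * (q * q) ≤ q ^ 4 := by
      rw [show q ^ 4 = q * q * (q * q) by ring]
      exact Nat.mul_le_mul_right _ (by nlinarith)
    nlinarith
  interval_cases m
  · exact m0 rfl
  · have := Nat.le_of_dvd (by norm_num) h3
    omega
  · have := Nat.le_of_dvd (by norm_num) h3
    omega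
  · have a1 : q * (q * q) ≤ q * (2 * p) := by nlinarith
    have a2 := Nat.le_of_mul_le_mul_left a1 (by omega)
    have a3 : q < 4 := by nlinarith
    obtain rfl : q = 3 := by omega
    obtain rfl : p = 5 := by omega
    norm_num at h3

end E2x

open E2x in
theorem e2 : E2.{u, v} := by
  intro G Ω _ _ _ _ p q t Δ h tr2 cen e nrm fix
  have := Fact.mk h.hp
  have := Fact.mk h.hq
  have p5 := h.p5
  have pq : p.Coprime q := (Nat.coprime_primes h.hp h.hq).2 h.qp.ne'
  have oz : orderOf (t ^ p) = p := by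
    rw [orderOf_pow_of_dvd h.hp.ne_zero (by rw [h.ord]; exact dvd_pow_self p two_ne_zero), h.ord, pow_two,
      Nat.mul_div_cancel _ h.hp.pos]
  have cZ : Nat.card (zpowers (t ^ p)) = p := by rw [Nat.card_zpowers, oz]
  have cG : Δᶜ.ncard = p := by
    have := h.cardG
    rw [mul_right_comm, e] at this
    nlinarith
  obtain ⟨a, ha, b, hb, ab⟩ := (Set.one_lt_ncard (s := Δᶜ)).1 (by omega)
  have zf : ∀ c : Ω, c ∉ Δ → zpowers (t ^ p) ≤ stabilizer G c := fun c hc x hx => (h.fixB c).2 hc x hx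
  have hZ : IsSylowIn p (zpowers (t ^ p)) (stabilizer G a ⊓ stabilizer G b) :=
    (h.sylG a ha).of_le (le_inf (zf a ha) (zf b hb)) inf_le_left
  obtain ⟨K, -, nK, pK, cK⟩ := compl hZ fun g hg hn y hy => h.ea.1 y hy g (nrm a ha b hb ab g hn hg.1 hg.2)
  have qK : q ∣ Nat.card K := by
    obtain ⟨x, hx, c, d, ne, hc, hd⟩ := two_fix h.toHyp
    obtain ⟨g, g1, g2⟩ := tr2 c d a b ne ab
    have m : g * x * g⁻¹ ∈ stabilizer G a ⊓ stabilizer G b :=
      mem_inf.2 ⟨by rw [← g1, mem_stabilizer_iff, mul_smul, inv_smul_smul, mul_smul, hc],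
        by rw [← g2, mem_stabilizer_iff, mul_smul, inv_smul_smul, mul_smul, hd]⟩
    have := Subgroup.orderOf_dvd_natCard _ m
    rw [← MulAut.conj_apply, MulEquiv.orderOf_eq, hx, ← cK, cZ] at this
    exact pq.symm.dvd_of_dvd_mul_right this
  obtain ⟨Q, hQ, nQ⟩ := exists_isSylowIn_le_normalizer q (hZ.le.trans nK)
    (by rw [cZ]; exact (Nat.Prime.coprime_iff_not_dvd h.hp).2 pK) (Or.inl inferInstance)
  have Q1 : Q ≠ ⊥ := fun f => hQ.not_dvd (by rwa [f, relIndex_bot_left])
  obtain ⟨V, ⟨V1, VQ, nV⟩, mn⟩ := (wellFounded_lt (α := Subgroup G)).has_min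
    {V | V ≠ ⊥ ∧ V ≤ Q ∧ zpowers (t ^ p) ≤ normalizer (V : Set G)} ⟨Q, Q1, le_rfl, nQ⟩
  have pV : IsPGroup q V := hQ.isPGroup.to_le VQ
  have dis : ∀ X : Subgroup G, IsPGroup p X → V ⊓ X = ⊥ := fun X hX =>
    disjoint_iff.1 (IsPGroup.disjoint_of_ne q p h.qp.ne V X pV hX)
  obtain ⟨c, hc⟩ : ∃ c : Ω, V ⊓ stabilizer G c = ⊥ := by
    by_contra! ne
    refine V1 ((inf_eq_left.2 fun x hx => fix x fun c hc => ?_).symm.trans (dis _ hZ.isPGroup))
    by_contra nx
    refine mn (V ⊓ stabilizer G c) ⟨ne c, inf_le_left.trans VQ, fun y hy => ?_⟩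
      (lt_of_le_of_ne inf_le_left fun f => nx (f.ge hx).2)
    exact mem_normalizer_iff.2 fun w => and_congr (mem_normalizer_iff.1 (nV hy) w)
      (mem_normalizer_iff.1 (le_normalizer (zf c hc hy)) w)
  obtain ⟨m, hm⟩ := pV.exists_card_eq
  have le : q ^ m ≤ 2 * p * q := by
    rw [← hm, ← osz_mul_card V c, hc, card_bot, mul_one, ← h.card]
    exact osz_le_card V c
  have md := card_modEq_card_inf_centralizer hZ.isPGroup nV
  have c1 : V ⊓ centralizer (zpowers (t ^ p) : Set G) = ⊥ := le_bot_iff.1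
    ((inf_le_inf_left V fun x hx => cen (mem_centralizer_singleton_iff.2 (hx _ (mem_zpowers _)).symm)).trans
      (dis _ h.syl.isPGroup).le)
  rw [c1, card_bot, hm] at md
  exact num h.q3 p5 e (fun f => V1 (card_eq_one.1 (by rw [hm, f, pow_zero]))) le md

end CL.EQ
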