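import Cfsg.Agent.EQ.Basic

/-!
Project EQ: the linear character of the centraliser of `t ^ p`.
-/

set_option autoImplicit false

open Cfsg CL.Grp MulAction Subgroup

namespace CL.EQ

universe u v

namespace LAMx

variable {G : Type u} [Group G]

theorem not_dvd_orderOf [Finite G] {p : ℕ} {K : Subgroup G} (hK : ¬ p ∣ Nat.card K) {x : G} (hx : x ∈ K) :
    ¬ p ∣ orderOf x := fun h => hK (h.trans (orderOf_dvd_natCard K hx))

theorem eq_one_of_pow [Finite G] {p : ℕ} (hp : p.Prime) {K : Subgroup G} (hK : ¬ p ∣ Nat.card K) {x : G}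
    (hx : x ∈ K) {n : ℕ} (h : x ^ p ^ n = 1) : x = 1 := by
  have h1 : orderOf x ∣ p ^ n := orderOf_dvd_of_pow_eq_one h
  have h2 : (orderOf x).Coprime (p ^ n) :=
    (Nat.Coprime.pow_left n ((Nat.Prime.coprime_iff_not_dvd hp).2 (not_dvd_orderOf hK hx))).symm
  exact orderOf_eq_one_iff.1 (Nat.Coprime.eq_one_of_dvd h2 h1)

theorem exists_unit (n : ℕ) (hn : n ≠ 0) : ∃ z : ℂˣ, orderOf z = n := by
  have h := Complex.isPrimitiveRoot_exp n hn
  refine ⟨(h.isUnit hn).unit, ?_⟩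
  rw [← orderOf_units, IsUnit.unit_spec]
  exact h.eq_orderOf.symm

theorem exists_hom [Finite G] {p : ℕ} (hp : p.Prime) {t : G} (ho : orderOf t = p ^ 2) {U K : Subgroup G}
    (h : NC p t U K) (ht : t ∈ U) :
    ∃ l : U →* ℂˣ, orderOf (l ⟨t, ht⟩) = p ^ 2 ∧ (∀ x : U, l x = 1 ↔ (x : G) ∈ K) ∧
      Nat.card U = p ^ 2 * Nat.card l.ker := by
  have hN : (K.subgroupOf U).Normal := (normal_subgroupOf_iff_le_normalizer h.le).2 h.nrm
  set tb : U ⧸ K.subgroupOf U := QuotientGroup.mk ⟨t, ht⟩ with htb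
  have hpow : ∀ j : ℕ, tb ^ j = 1 ↔ t ^ j = 1 := by
    intro j
    rw [htb, ← QuotientGroup.mk_pow, QuotientGroup.eq_one_iff, mem_subgroupOf]
    constructor
    · intro hj
      refine eq_one_of_pow hp h.cop hj (n := 2) ?_
      show (t ^ j) ^ p ^ 2 = 1
      rw [← pow_mul, mul_comm, pow_mul, ← ho, pow_orderOf_eq_one, one_pow]
    · intro hj
      show t ^ j ∈ K
      rw [hj]; exact K.one_mem
  have hob : orderOf tb = p ^ 2 := by
    rw [← ho]
    exact orderOf_eq_orderOf_iff.2 hpow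
  have hdec : ∀ x : U, ∃ j : ℕ, (QuotientGroup.mk x : U ⧸ K.subgroupOf U) = tb ^ j := by
    intro x
    obtain ⟨k, hk, j, hj⟩ := h.dec x x.2
    refine ⟨j, ?_⟩
    have hx : x = ⟨k, h.le hk⟩ * ⟨t, ht⟩ ^ j := Subtype.ext hj
    have hk1 : (QuotientGroup.mk ⟨k, h.le hk⟩ : U ⧸ K.subgroupOf U) = 1 :=
      (QuotientGroup.eq_one_iff _).2 hk
    rw [hx, QuotientGroup.mk_mul, hk1, one_mul, QuotientGroup.mk_pow]
  have hgen : ∀ y : U ⧸ K.subgroupOf U, y ∈ zpowers tb := by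
    intro y
    induction y using QuotientGroup.induction_on with
    | H x =>
      obtain ⟨j, hj⟩ := hdec x
      rw [hj]
      exact pow_mem (mem_zpowers _) j
  obtain ⟨ζ, hζ⟩ := exists_unit (p ^ 2) (pow_ne_zero 2 hp.ne_zero)
  have hdvd : orderOf ζ ∣ orderOf tb := by rw [hζ, hob]
  set l : U →* ℂˣ := (monoidHomOfForallMemZpowers hgen hdvd).comp (QuotientGroup.mk' (K.subgroupOf U)) with hl
  have hlt : l ⟨t, ht⟩ = ζ := monoidHomOfForallMemZpowers_apply_gen hgen hdvd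
  have hker : ∀ x : U, l x = 1 ↔ (x : G) ∈ K := by
    intro x
    obtain ⟨j, hj⟩ := hdec x
    have h1 : l x = ζ ^ j := by
      show monoidHomOfForallMemZpowers hgen hdvd (QuotientGroup.mk x) = ζ ^ j
      rw [hj, map_pow, monoidHomOfForallMemZpowers_apply_gen]
    rw [h1, ← orderOf_dvd_iff_pow_eq_one, hζ, ← hob, orderOf_dvd_iff_pow_eq_one, ← hj,
      QuotientGroup.eq_one_iff, mem_subgroupOf]
  refine ⟨l, by rw [hlt, hζ], hker, ?_⟩
  have hk : l.ker = K.subgroupOf U := by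
    ext x
    rw [MonoidHom.mem_ker, hker, mem_subgroupOf]
  have hcq : Nat.card (U ⧸ K.subgroupOf U) = p ^ 2 := by
    rw [← hob]
    exact (orderOf_eq_card_of_forall_mem_zpowers hgen).symm
  rw [hk, card_eq_card_quotient_mul_card_subgroup (K.subgroupOf U), hcq]

theorem comm_of_mem {z x w : G} (hx : x ∈ centralizer ({z} : Set G)) (hw : w ∈ zpowers z) :
    x * w = w * x := by
  obtain ⟨i, rfl⟩ := mem_zpowers_iff.1 hw
  exact (Commute.zpow_right (mem_centralizer_singleton_iff.1 hx) i).eq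

theorem mem_norm {z x : G} (hx : x ∈ centralizer ({z} : Set G)) :
    x ∈ normalizer ((zpowers z : Subgroup G) : Set G) := by
  rw [mem_normalizer_iff]
  intro w
  constructor
  · intro hw
    rw [comm_of_mem hx hw, mul_inv_cancel_right]; exact hw
  · intro hw
    have h := comm_of_mem (inv_mem hx) hw
    have h2 : w = x * w * x⁻¹ := by
      calc w = x⁻¹ * (x * w * x⁻¹) * x := by group
        _ = x * w * x⁻¹ := by rw [h]; group
    rw [h2]; exact hw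

theorem conj_mem_cent {z x n : G} (hn : n ∈ normalizer ((zpowers z : Subgroup G) : Set G))
    (hx : x ∈ centralizer ({z} : Set G)) : n * x * n⁻¹ ∈ centralizer ({z} : Set G) := by
  have hw : n⁻¹ * z * n⁻¹⁻¹ ∈ zpowers z := (mem_normalizer_iff.1 (inv_mem hn) z).1 (mem_zpowers z)
  have h := comm_of_mem hx hw
  rw [mem_centralizer_singleton_iff]
  calc n * x * n⁻¹ * z = n * (x * (n⁻¹ * z * n⁻¹⁻¹)) * n⁻¹ := by group
    _ = z * (n * x * n⁻¹) := by rw [h]; group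

theorem t_mem (p : ℕ) (t : G) : t ∈ centralizer ({t ^ p} : Set G) :=
  mem_centralizer_singleton_iff.2 (Commute.self_pow t p).eq

theorem orderOf_z [Finite G] {p : ℕ} (hp : p.Prime) {t : G} (ho : orderOf t = p ^ 2) :
    orderOf (t ^ p) = p := by
  rw [orderOf_pow, ho, pow_two, Nat.gcd_mul_right_left, Nat.mul_div_cancel _ hp.pos]

theorem mem_Z [Finite G] {p : ℕ} (hp : p.Prime) {t : G} (ho : orderOf t = p ^ 2)
    (hs : IsSylowIn p (zpowers t) (centralizer ({t ^ p} : Set G))) {y : G}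
    (hy : y ∈ centralizer ({t ^ p} : Set G)) (h : y ^ p = 1) : y ∈ zpowers (t ^ p) := by
  haveI : Fact p.Prime := ⟨hp⟩
  have hP : IsPGroup p (zpowers y) := by
    rintro ⟨w, hw⟩
    obtain ⟨i, rfl⟩ := mem_zpowers_iff.1 hw
    refine ⟨1, Subtype.ext ?_⟩
    show (y ^ i) ^ p ^ 1 = 1
    rw [pow_one, ← zpow_natCast, ← zpow_mul, mul_comm, zpow_mul, zpow_natCast, h, one_zpow]
  obtain ⟨c, hc, hle⟩ := hs.exists_conj_le hP ((zpowers_le).2 hy)
  have h1 : c * y * c⁻¹ ∈ zpowers t := (conj_smul_le_iff c _ _).1 hle y (mem_zpowers y)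
  obtain ⟨j, hj⟩ := (mem_powers_iff_mem_zpowers.2 h1 : c * y * c⁻¹ ∈ Submonoid.powers t)
  have hj' : t ^ j = c * y * c⁻¹ := hj
  have h2 : t ^ (j * p) = 1 := by
    rw [pow_mul, hj', conj_pow, h]; group
  have h3 : p * p ∣ j * p := by
    rw [← pow_two, ← ho]; exact orderOf_dvd_of_pow_eq_one h2
  obtain ⟨i, rfl⟩ := Nat.dvd_of_mul_dvd_mul_right hp.pos h3
  have h4 : c * y * c⁻¹ ∈ zpowers (t ^ p) := by
    rw [← hj', pow_mul]; exact pow_mem (mem_zpowers _) i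
  exact (mem_normalizer_iff.1 (mem_norm hc) y).2 h4

theorem zpowers_eq [Finite G] {p : ℕ} {z y : G} (hz : orderOf z = p) (hy : orderOf y = p)
    (h : y ∈ zpowers z) : zpowers y = zpowers z :=
  eq_of_le_of_card_ge (zpowers_le.2 h) (by rw [Nat.card_zpowers, Nat.card_zpowers, hz, hy])

theorem mem_norm_of_conj [Finite G] {z y g : G} (hyz : zpowers y = zpowers z)
    (h : g * y * g⁻¹ ∈ zpowers z) : g ∈ normalizer ((zpowers z : Subgroup G) : Set G) := by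
  rw [← conj_smul_eq_self_iff]
  refine eq_of_le_of_card_ge ?_ (card_conj_smul g _).ge
  rw [conj_smul_le_iff]
  intro w hw
  rw [← hyz] at hw
  obtain ⟨i, rfl⟩ := mem_zpowers_iff.1 hw
  rw [← conj_zpow]
  exact zpow_mem h i

/-- an element of a subgroup with Sylow `p`-subgroup `Z` of order `p` that centralises `Z` has order not
divisible by `p ^ 2` -/
theorem pow_eq_one [Finite G] {p : ℕ} (hp : p.Prime) {z x : G} (hz : orderOf z = p) {H : Subgroup G}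
    (hs : IsSylowIn p (zpowers z) H) (hx : x ∈ H) (hc : x ∈ centralizer ({z} : Set G)) :
    ∃ m : ℕ, ¬ p ∣ m ∧ x ^ (m * p) = 1 := by
  haveI : Fact p.Prime := ⟨hp⟩
  obtain ⟨i, m, hm, hi⟩ := Nat.exists_eq_pow_mul_and_not_dvd (orderOf_pos x).ne' p hp.ne_one
  refine ⟨m, hm, ?_⟩
  have hy : (x ^ m) ^ p ^ i = 1 := by
    rw [← pow_mul, mul_comm, ← hi, pow_orderOf_eq_one]
  have hP : IsPGroup p (zpowers (x ^ m)) := by
    rintro ⟨w, hw⟩
    obtain ⟨k, rfl⟩ := mem_zpowers_iff.1 hw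
    refine ⟨i, Subtype.ext ?_⟩
    show ((x ^ m) ^ k) ^ p ^ i = 1
    rw [← zpow_natCast, ← zpow_mul, mul_comm, zpow_mul, zpow_natCast, hy, one_zpow]
  have hn : zpowers (x ^ m) ≤ normalizer ((zpowers z : Subgroup G) : Set G) :=
    zpowers_le.2 (mem_norm (pow_mem hc m))
  have hU : IsPGroup p (zpowers z ⊔ zpowers (x ^ m) : Subgroup G) :=
    IsPGroup.to_sup_of_normal_left' hs.isPGroup hP hn
  have he := hs.eq_of_le hU le_sup_left (sup_le hs.le (zpowers_le.2 (pow_mem hx m)))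
  have hm2 : x ^ m ∈ zpowers z := by
    rw [← he]; exact mem_sup_right (mem_zpowers _)
  obtain ⟨k, hk⟩ := mem_zpowers_iff.1 hm2
  rw [pow_mul, ← hk, ← zpow_natCast, ← zpow_mul, mul_comm, zpow_mul, zpow_natCast, ← hz,
    pow_orderOf_eq_one, one_zpow]

theorem conj_mem_K [Finite G] {p : ℕ} {t z : G} {K : Subgroup G}
    (h : NC p t (centralizer ({z} : Set G)) K) {n k : G}
    (hn : n ∈ normalizer ((zpowers z : Subgroup G) : Set G)) (hk : k ∈ K) : n * k * n⁻¹ ∈ K := by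
  refine h.mem _ (conj_mem_cent hn (h.le hk)) ?_
  have ho : orderOf (n * k * n⁻¹) = orderOf k := by
    have := (MulAut.conj n).orderOf_eq k
    simpa using this
  rw [ho]
  exact not_dvd_orderOf h.cop hk

theorem cnj [Finite G] {p : ℕ} (hp : p.Prime) {t : G} (ho : orderOf t = p ^ 2) {K : Subgroup G}
    (h : NC p t (centralizer ({t ^ p} : Set G)) K) (l : centralizer ({t ^ p} : Set G) →* ℂˣ)
    (hl : orderOf (l ⟨t, t_mem p t⟩) = p ^ 2) (hk : ∀ x, l x = 1 ↔ (x : G) ∈ K) (n : G)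
    (hn : n ∈ normalizer ((zpowers (t ^ p) : Subgroup G) : Set G)) : ∃ e : ℕ, ¬ p ∣ e ∧
    (e ≡ 1 [MOD p] → n ∈ centralizer ({t ^ p} : Set G)) ∧
    ∀ x : centralizer ({t ^ p} : Set G), ∃ h : n * x * n⁻¹ ∈ centralizer ({t ^ p} : Set G),
      l ⟨n * x * n⁻¹, h⟩ = l x ^ e := by
  have ht := t_mem p t
  have hz := orderOf_z hp ho
  obtain ⟨k, hkK, e, he⟩ := h.dec _ (conj_mem_cent hn ht)
  have hlt : l ⟨n * t * n⁻¹, conj_mem_cent hn ht⟩ = l ⟨t, ht⟩ ^ e := by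
    have h1 : (⟨n * t * n⁻¹, conj_mem_cent hn ht⟩ : centralizer ({t ^ p} : Set G)) =
        ⟨k, h.le hkK⟩ * ⟨t, ht⟩ ^ e := Subtype.ext he
    rw [h1, map_mul, map_pow, (hk ⟨k, h.le hkK⟩).2 hkK, one_mul]
  have hall : ∀ x : centralizer ({t ^ p} : Set G),
      l ⟨n * x * n⁻¹, conj_mem_cent hn x.2⟩ = l x ^ e := by
    intro x
    obtain ⟨k', hk', j, hj⟩ := h.dec x x.2
    have h1 : x = ⟨k', h.le hk'⟩ * ⟨t, ht⟩ ^ j := Subtype.ext hj
    have h2 : (⟨n * x * n⁻¹, conj_mem_cent hn x.2⟩ : centralizer ({t ^ p} : Set G)) =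
        ⟨n * k' * n⁻¹, conj_mem_cent hn (h.le hk')⟩ * ⟨n * t * n⁻¹, conj_mem_cent hn ht⟩ ^ j := by
      apply Subtype.ext
      show n * x * n⁻¹ = n * k' * n⁻¹ * (n * t * n⁻¹) ^ j
      rw [conj_pow, hj]; group
    rw [h2, map_mul, map_pow, hlt, (hk _).2 (conj_mem_K h hn hk'), one_mul]
    conv_rhs => rw [h1, map_mul, map_pow, (hk ⟨k', h.le hk'⟩).2 hk', one_mul]
    rw [← pow_mul, ← pow_mul, mul_comm]
  have hzC : t ^ p ∈ centralizer ({t ^ p} : Set G) := pow_mem ht p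
  have hlz : l ⟨t ^ p, hzC⟩ = l ⟨t, ht⟩ ^ p := by
    rw [← map_pow]; rfl
  have hlzp : l ⟨t ^ p, hzC⟩ ^ p = 1 := by
    rw [hlz, ← pow_mul, ← pow_two, ← hl, pow_orderOf_eq_one]
  have hZK : ∀ w ∈ zpowers (t ^ p), w ∈ K → w = 1 := by
    intro w hw hwK
    refine eq_one_of_pow hp h.cop hwK (n := 1) ?_
    obtain ⟨i, rfl⟩ := mem_zpowers_iff.1 hw
    rw [pow_one, ← zpow_natCast _ p, ← zpow_mul, mul_comm, zpow_mul, zpow_natCast]
    have : (t ^ p) ^ p = 1 := by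
      conv_lhs => rw [← pow_mul, ← pow_two, ← ho, pow_orderOf_eq_one]
    rw [this, one_zpow]
  have hnz : n * t ^ p * n⁻¹ ∈ zpowers (t ^ p) := (mem_normalizer_iff.1 hn _).1 (mem_zpowers _)
  refine ⟨e, ?_, ?_, fun x => ⟨_, hall x⟩⟩
  · rintro ⟨f, rfl⟩
    have h1 := hall ⟨t ^ p, hzC⟩
    rw [pow_mul, hlzp, one_pow, hk] at h1
    have h2 : n * t ^ p * n⁻¹ = 1 := hZK _ hnz h1
    have h3 : t ^ p = 1 := by
      calc t ^ p = n⁻¹ * (n * t ^ p * n⁻¹) * n := by group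
        _ = 1 := by rw [h2]; group
    rw [h3, orderOf_one] at hz
    exact hp.one_lt.ne hz
  · intro hmod
    have h1 := hall ⟨t ^ p, hzC⟩
    have h2 : l ⟨t ^ p, hzC⟩ ^ e = l ⟨t ^ p, hzC⟩ := by
      conv_rhs => rw [← pow_one (l ⟨t ^ p, hzC⟩)]
      exact pow_eq_pow_iff_modEq.2 (hmod.of_dvd (orderOf_dvd_of_pow_eq_one hlzp))
    rw [h2] at h1
    have h3 : l (⟨n * t ^ p * n⁻¹, conj_mem_cent hn hzC⟩ * ⟨t ^ p, hzC⟩⁻¹) = 1 := by
      rw [map_mul, map_inv, mul_inv_eq_one]; exact h1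
    have h4 : n * t ^ p * n⁻¹ * (t ^ p)⁻¹ = 1 :=
      hZK _ (mul_mem hnz (inv_mem (mem_zpowers _))) ((hk _).1 h3)
    rw [mem_centralizer_singleton_iff]
    calc n * t ^ p = (n * t ^ p * n⁻¹ * (t ^ p)⁻¹) * (t ^ p * n) := by group
      _ = t ^ p * n := by rw [h4, one_mul]

end LAMx

open LAMx in
theorem lam (h1 : BU.{u}) (h2 : FX.{u,v}) : LAM.{u,v} := by
  intro G Ω _ _ _ _ p q t Δ h
  have hp := h.hp
  have ho := h.ord
  have ht := t_mem p t
  have hz := orderOf_z hp ho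
  have hs : IsSylowIn p (zpowers t) (centralizer ({t ^ p} : Set G)) :=
    h.syl.of_le (zpowers_le.2 ht) le_top
  obtain ⟨K, hK⟩ := h1 G p t _ hp ho hs (fun n hn _ => Or.inl (by
    rw [mem_centralizer_singleton_iff.1 hn, mul_inv_cancel_right]))
  obtain ⟨l, hl, hk, hc⟩ := exists_hom hp ho hK ht
  have hdec : ∀ x : centralizer ({t ^ p} : Set G), ∃ k ∈ K, ∃ j : ℕ, (x : G) = k * t ^ j ∧
      l x = l ⟨t, ht⟩ ^ j := by
    intro x
    obtain ⟨k, hkK, j, hj⟩ := hK.dec x x.2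
    refine ⟨k, hkK, j, hj, ?_⟩
    have h3 : x = ⟨k, hK.le hkK⟩ * ⟨t, ht⟩ ^ j := Subtype.ext hj
    conv_lhs => rw [h3, map_mul, map_pow, (hk ⟨k, hK.le hkK⟩).2 hkK, one_mul]
  have hpw : ∀ x, l x ^ p ^ 2 = 1 := by
    intro x
    obtain ⟨k, -, j, -, hj⟩ := hdec x
    rw [hj, ← pow_mul, mul_comm, pow_mul, ← hl, pow_orderOf_eq_one, one_pow]
  have hfix : ∀ k ∈ K, ∀ a ∈ Δ, k • a = a :=
    (h2 G Ω p q t Δ h).1 K hK.cop (hK.nrm ht) fun k hk a ha => (h.nD k (mem_norm (hK.le hk)) a).2 ha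
  refine ⟨l, fun _ => hl, hpw, hc, ?_, ?_, ?_, cnj hp ho hK l hl hk⟩
  · intro x a ha
    obtain ⟨k, hkK, j, hx, hj⟩ := hdec x
    have htj : t ^ j ∈ zpowers t := pow_mem (mem_zpowers t) j
    rw [hx, mul_smul, hfix k hkK _ (h.invD _ htj a ha), hj, ← orderOf_dvd_iff_pow_eq_one, hl, ← ho,
      orderOf_dvd_iff_pow_eq_one]
    exact ⟨h.regD _ htj a ha, fun h3 => by rw [h3, one_smul]⟩
  · intro x a ha hx
    obtain ⟨m, hm, hxm⟩ := pow_eq_one hp hz (h.sylG a ha) (mem_stabilizer_iff.2 hx) x.2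
    have h3 : l x ^ (m * p) = 1 := by
      rw [← map_pow, show x ^ (m * p) = 1 from Subtype.ext hxm, map_one]
    have h4 : orderOf (l x) ∣ Nat.gcd (m * p) (p * p) :=
      Nat.dvd_gcd (orderOf_dvd_of_pow_eq_one h3) (by
        rw [← pow_two]; exact orderOf_dvd_of_pow_eq_one (hpw x))
    rw [Nat.gcd_mul_right, ((Nat.Prime.coprime_iff_not_dvd hp).2 hm).symm.gcd_eq_one, one_mul] at h4
    exact orderOf_dvd_iff_pow_eq_one.1 h4
  · intro x hx g hg
    have hd : p ∣ orderOf (x : G) := by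
      by_contra hd
      exact hx ((hk x).2 (hK.mem _ x.2 hd))
    have hy : orderOf ((x : G) ^ (orderOf (x : G) / p)) = p :=
      orderOf_pow_orderOf_div (orderOf_pos _).ne' hd
    have hyp : ((x : G) ^ (orderOf (x : G) / p)) ^ p = 1 := by
      conv_lhs => rw [← pow_mul, Nat.div_mul_cancel hd, pow_orderOf_eq_one]
    have hyZ := mem_Z hp ho hs (pow_mem x.2 _) hyp
    refine mem_norm_of_conj (zpowers_eq hz hy hyZ) (mem_Z hp ho hs ?_ ?_)
    · rw [← conj_pow]; exact pow_mem hg _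
    · rw [conj_pow, hyp]; group

end CL.EQ
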