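import Cfsg.Agent.EQ.Basic
import Cfsg.Agent.Fgs.FixCount

/-!
Project EQ (S3579): Lemma K, the normaliser of `B` is not transitive.
-/

set_option autoImplicit false

open Cfsg CL.Grp MulAction Subgroup
open scoped Pointwise

namespace CL.EQ

universe u v

namespace LKx

variable {G : Type u} {Ω : Type v} [Group G] [MulAction G Ω] {p q : ℕ} {B : Subgroup G}

theorem smul_orb {n : G} (hn : n ∈ normalizer (B : Set G)) (a : Ω) : n • orb B a = orb B (n • a) :=
  (orb_smul hn a).symm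

theorem stab_iff {n : G} (hn : n ∈ normalizer (B : Set G)) (a : Ω) : n • orb B a = orb B a ↔ n • a ∈ orb B a := by
  rw [smul_orb hn]
  exact ⟨fun e => e ▸ self_mem_orb B _, orb_eq_of_mem⟩

/-- the elements of `B` that move `a` to a fixed point of `y` -/
def fixS (hB : EA p B) {y : G} (hy : y ∈ normalizer (B : Set G)) {a : Ω} (ha : y • a = a) : Subgroup G where
  carrier := {b | b ∈ B ∧ y • b • a = b • a}
  one_mem' := ⟨one_mem _, by rw [one_smul, ha]⟩
  mul_mem' := by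
    rintro b c ⟨hb, eb⟩ ⟨hc, ec⟩
    refine ⟨mul_mem hb hc, ?_⟩
    calc y • (b * c) • a = (y * b * y⁻¹) • y • c • a := by simp only [mul_smul, inv_smul_smul]
      _ = (c * (y * b * y⁻¹)) • y • a := by
        rw [ec, ha, ← mul_smul, hB.1 _ ((mem_normalizer_iff.1 hy b).1 hb) c hc]
      _ = _ := by rw [hB.1 b hb c hc]; simp only [mul_smul, inv_smul_smul, eb]
  inv_mem' := by
    rintro b ⟨hb, eb⟩
    refine ⟨inv_mem hb, ?_⟩
    have e : (y * b * y⁻¹) • b⁻¹ • a = a := by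
      rw [← mul_smul, hB.1 _ ((mem_normalizer_iff.1 hy b).1 hb) _ (inv_mem hb)]
      nth_rewrite 1 [← ha]
      simp only [mul_smul, inv_smul_smul, eb]
    calc y • b⁻¹ • a = (y * b * y⁻¹)⁻¹ • y • a := by
          simp only [mul_inv_rev, inv_inv, mul_smul, inv_smul_smul]
      _ = _ := by rw [ha, inv_smul_eq_iff, e]

variable [Finite G] [Finite Ω]

omit [Finite G] in
theorem blk (h : Hyp G Ω p q) (hp : p < 2 * q) (hB : EA p B) (ho : ∀ a : Ω, osz B a = p) {y : G}
    (hy : y ∈ normalizer (B : Set G)) (hq : orderOf y = q) (hf : ∀ a : Ω, y • a ∈ orb B a) : False := by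
  have h1 : y = 1 := h.faith y fun c => by
    have m := CL.Fgs.ncard_modEq_inter_fixedBy h.hq hq (orb B c) fun x hx => orb_eq_of_mem hx ▸ hf x
    rw [← osz_eq_ncard, ho] at m
    rcases (orb B c ∩ fixedBy Ω y).eq_empty_or_nonempty with e | ⟨a, ha, ha'⟩
    · rw [e, Set.ncard_empty, Nat.modEq_zero_iff_dvd, Nat.prime_dvd_prime_iff_eq h.hq h.hp] at m
      exact absurd m h.qp.ne
    have le : fixS hB hy ha' ≤ B := fun _ hb => hb.1
    have d := osz_dvd_of_normalized le (fun b hb => centralizer_le_normalizer _ fun c hc => hB.1 c hc.1 b hb) a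
    rw [ho] at d
    rcases (Nat.dvd_prime h.hp).1 d with e | e
    · have e1 : orb B c ∩ fixedBy Ω y = {a} := Set.eq_singleton_iff_unique_mem.2 ⟨⟨ha, ha'⟩, fun x hx => by
        obtain ⟨b, hb, rfl⟩ : x ∈ orb B a := (orb_eq_of_mem ha).symm ▸ hx.1
        exact osz_eq_one_iff.1 e b ⟨hb, hx.2⟩⟩
      rw [e1, Set.ncard_singleton] at m
      obtain ⟨k, hk⟩ := (Nat.modEq_iff_dvd' h.hp.one_le).1 m.symm
      have h3 := h.q3
      have h4 := h.qp
      have h5 := Nat.odd_iff.1 (h.hp.odd_of_ne_two (by omega))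
      have h6 := Nat.odd_iff.1 (h.hq.odd_of_ne_two (by omega))
      have h7 : k < 2 := Nat.lt_of_mul_lt_mul_left (a := q) (by omega)
      interval_cases k <;> omega
    · obtain ⟨b, hb, rfl⟩ : c ∈ orb (fixS hB hy ha') a :=
        (orb_eq_of_osz_le le ((ho a).trans e.symm).le).symm ▸ mem_orb_symm ha
      exact hb.2
  rw [h1, orderOf_one] at hq
  exact h.hq.one_lt.ne hq

omit [Finite Ω] in
theorem oszN (h : Hyp G Ω p q) (ho : ∀ a : Ω, osz B a = p)
    (ht : ∀ a b : Ω, ∃ n ∈ normalizer (B : Set G), n • a = b) (a : Ω) :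
    osz (normalizer (B : Set G)) (orb B a) = 2 * q := by
  set N := normalizer (B : Set G)
  have e1 : osz N a = 2 * p * q := by
    rw [osz_eq_ncard, Set.eq_univ_of_forall (s := orb N a) (ht a), Set.ncard_univ, h.card]
  have e2 : osz (N ⊓ stabilizer G (orb B a)) a = p := by
    rw [← ho a, osz_eq_ncard, osz_eq_ncard]
    refine congrArg _ (Set.Subset.antisymm ?_ (orb_mono (le_inf le_normalizer fun b hb =>
      (stab_iff (le_normalizer hb) a).2 ⟨b, hb, rfl⟩) a))
    rintro _ ⟨n, hn, rfl⟩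
    exact (stab_iff hn.1 a).1 hn.2
  have e3 : N ⊓ stabilizer G (orb B a) ⊓ stabilizer G a = N ⊓ stabilizer G a :=
    le_antisymm (inf_le_inf_right _ inf_le_left) fun n hn =>
      ⟨⟨hn.1, (stab_iff hn.1 a).2 ((mem_stabilizer_iff.1 hn.2).symm ▸ self_mem_orb B a)⟩, hn.2⟩
  have c1 := osz_mul_card N a
  have c2 := osz_mul_card (N ⊓ stabilizer G (orb B a)) a
  have c3 := osz_mul_card N (orb B a)
  rw [← c2, ← c1, e1, e2, e3, ← mul_assoc] at c3
  exact Nat.eq_of_mul_eq_mul_right h.hp.pos ((Nat.eq_of_mul_eq_mul_right Nat.card_pos c3).trans (by ring))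

theorem normal_of {X : Type*} [MulAction G X] (hq : q.Prime) {Q : Subgroup G} (hQ : IsPGroup q Q) {a : X}
    (h : osz Q a = q) : ((stabilizer G a).subgroupOf Q).Normal := by
  have := Fact.mk hq
  obtain ⟨n, hn⟩ := IsPGroup.iff_card.1 hQ
  have h0 : n ≠ 0 := by
    rintro rfl
    have := osz_dvd_card Q a
    rw [h, hn, pow_zero, Nat.dvd_one] at this
    exact hq.one_lt.ne' this
  exact normal_of_index_eq_minFac_card (h.trans (by rw [hn, hq.pow_minFac h0]))

end LKx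

open LKx in
theorem lk : LK.{u, v} := by
  intro G Ω _ _ _ _ p q B h hp hB ho ht
  have := Fact.mk h.hq
  have h3 := h.q3
  obtain ⟨Q, hQ⟩ := exists_isSylowIn q (normalizer (B : Set G))
  have oN := oszN h ho ht
  have oQ : ∀ a : Ω, osz Q (orb B a) = q := fun a => by
    have d := dvd_osz_of_sylow h.hq hQ (a := orb B a) (oN a ▸ dvd_mul_left q 2)
    have l := oN a ▸ osz_mono hQ.le (orb B a)
    obtain ⟨k, hk⟩ := exists_osz_eq_pow h.hq hQ.isPGroup (orb B a)
    rw [hk] at d l ⊢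
    match k with
    | 0 => exact absurd (Nat.dvd_one.1 d) h.hq.one_lt.ne'
    | 1 => exact pow_one q
    | k + 2 =>
      have := Nat.pow_le_pow_right h.hq.pos (Nat.le_add_left 2 k)
      nlinarith
  obtain ⟨a₁⟩ : Nonempty Ω := (Nat.card_pos_iff.1 (h.card ▸ by have := h.p5; positivity)).1
  obtain ⟨γ, ⟨n, hn, rfl⟩, hγ⟩ : ∃ γ ∈ orb (normalizer (B : Set G)) (orb B a₁), γ ∉ orb Q (orb B a₁) := by
    by_contra hc
    push Not at hc
    have := Set.ncard_le_ncard (s := orb (normalizer (B : Set G)) (orb B a₁)) hc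
    rw [← osz_eq_ncard, ← osz_eq_ncard, oN, oQ] at this
    omega
  rw [smul_orb hn] at hγ
  have hall : orb Q (orb B (n • a₁)) ∪ orb Q (orb B a₁) = orb (normalizer (B : Set G)) (orb B a₁) :=
    Set.eq_of_subset_of_ncard_le (Set.union_subset ((orb_mono hQ.le _).trans
      (orb_eq_of_mem ⟨n, hn, smul_orb hn a₁⟩).le) (orb_mono hQ.le _)) (by
        rw [Set.ncard_union_eq (disjoint_orb hγ), ← osz_eq_ncard, ← osz_eq_ncard, ← osz_eq_ncard, oN, oQ, oQ]
        omega)
  have mv : ∀ a : Ω, ∃ x ∈ Q, x ∉ stabilizer G (orb B a) := fun a => by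
    by_contra hc
    push Not at hc
    exact h.hq.one_lt.ne' ((oQ a).symm.trans (osz_eq_one_iff.2 hc))
  obtain ⟨x, hx, x1, x2⟩ : ∃ x ∈ Q, x ∉ stabilizer G (orb B (n • a₁)) ∧ x ∉ stabilizer G (orb B a₁) := by
    obtain ⟨x, hx, x1⟩ := mv (n • a₁)
    obtain ⟨y, hy, y2⟩ := mv a₁
    by_cases x2 : x ∈ stabilizer G (orb B a₁)
    · by_cases y1 : y ∈ stabilizer G (orb B (n • a₁))
      · exact ⟨x * y, mul_mem hx hy, fun k => x1 ((mul_mem_cancel_right y1).1 k),
          fun k => y2 ((mul_mem_cancel_left x2).1 k)⟩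
      · exact ⟨y, hy, y1, y2⟩
    · exact ⟨x, hx, x1, x2⟩
  have nor := fun a : Ω => normal_of h.hq hQ.isPGroup (oQ a)
  have cj : ∀ a : Ω, ∀ γ ∈ orb Q (orb B a), x • γ = γ → x ∈ stabilizer G (orb B a) := by
    rintro a _ ⟨g, hg, rfl⟩ e
    have k : (⟨g, hg⟩⁻¹ * ⟨x, hx⟩ * ⟨g, hg⟩ : Q) ∈ (stabilizer G (orb B a)).subgroupOf Q := by
      change (g⁻¹ * x * g) • orb B a = orb B a
      rw [mul_smul, mul_smul, e, inv_smul_smul]
    simpa [mul_assoc, mem_subgroupOf] using (nor a).conj_mem _ k ⟨g, hg⟩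
  have nf : ∀ a : Ω, x • a ≠ a := fun a e => by
    obtain ⟨m, hm, rfl⟩ := ht a₁ a
    have e1 : x • orb B (m • a₁) = orb B (m • a₁) := by rw [smul_orb (hQ.le hx), e]
    rcases hall.ge ⟨m, hm, smul_orb hm a₁⟩ with k | k
    · exact x1 (cj _ _ k e1)
    · exact x2 (cj _ _ k e1)
  have pw : ∀ a : Ω, x ^ q ∈ stabilizer G (orb B a) := fun a => by
    have := nor a
    have k := pow_index_mem ((stabilizer G (orb B a)).subgroupOf Q) ⟨x, hx⟩
    rwa [show ((stabilizer G (orb B a)).subgroupOf Q).index = q from oQ a] at k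
  by_cases e : x ^ q = 1
  · obtain ⟨a, ha⟩ := h.el x (orderOf_eq_prime e (fun k => x2 (k ▸ one_mem _)) ▸ h.hq)
    exact nf a ha
  · obtain ⟨k, hk⟩ := hQ.isPGroup ⟨x ^ q, pow_mem hx q⟩
    obtain ⟨j, -, hj⟩ := (Nat.dvd_prime_pow h.hq).1 (orderOf_dvd_of_pow_eq_one (x := x ^ q) (congrArg Subtype.val hk))
    have d : q ∣ orderOf (x ^ q) := hj ▸ dvd_pow_self q fun k => e (orderOf_eq_one_iff.1 (by rw [hj, k, pow_zero]))
    have m := hQ.le (pow_mem (pow_mem hx q) (orderOf (x ^ q) / q))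
    exact blk h hp hB ho m (orderOf_pow_orderOf_div (orderOf_pos _).ne' d) fun a =>
      (stab_iff m a).1 (pow_mem (pw a) _)

end CL.EQ
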