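import Cfsg.Agent.EQ.Basic
import Cfsg.Agent.Grp.Cores

/-! Project EQ: Lemma S, a `p`-cycle acting on an orbit of a `p'`-group. -/

set_option autoImplicit false

open Cfsg CL.Grp MulAction Subgroup

namespace CL.EQ

universe u v

namespace LSx

variable {G : Type u} {Ω : Type v} [Group G] [Finite G] [MulAction G Ω]

theorem pw {X : Set Ω} {g : G} (h : ∀ x ∈ X, g • x ∈ X) {k : G} (hk : k ∈ zpowers g) : ∀ x ∈ X, k • x ∈ X := by
  obtain ⟨n, rfl⟩ := (mem_powers_iff_mem_zpowers.2 hk : k ∈ Submonoid.powers g)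
  intro x hx
  induction n with
  | zero => simpa using hx
  | succ n ih =>
    simp only [pow_succ', mul_smul]
    exact h _ (ih (npow_mem_zpowers g n))

omit [Finite G] in
theorem inv {R : Subgroup G} {g : G} (hg : g ∈ normalizer (R : Set G)) {x : Ω} (h : g • x ∈ orb R x) :
    ∀ y ∈ orb R x, g • y ∈ orb R x := fun y hy => by
  rw [← orb_eq_of_mem h, orb_smul hg]
  exact ⟨y, hy, rfl⟩

theorem key [Finite Ω] {p : ℕ} {K : Subgroup G} {b : G} {a : Ω} (hp : p.Prime) (p2 : p ≠ 2) (hK : ¬ p ∣ Nat.card K)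
    (bp : b ^ p = 1) (bK : b ∈ normalizer (K : Set G)) (bO : ∀ x ∈ orb K a, b • x ∈ orb K a)
    (hβ : {x | x ∈ orb K a ∧ b • x ≠ x}.ncard = p) (h2 : osz K a < 2 * p) {r : ℕ} (hr : r.Prime)
    (hd : r ∣ osz K a) : r = 2 ∧ ∃ e : ℕ, p + 1 = 2 ^ e := by
  have := Fact.mk hr
  have := Fact.mk hp
  have rp : ¬ r ∣ p := fun e => hK (((Nat.prime_dvd_prime_iff_eq hr hp).1 e) ▸ hd.trans (osz_dvd_card K a))
  obtain ⟨x, hx, bx⟩ := Set.nonempty_of_ncard_ne_zero (hβ ▸ hp.ne_zero)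
  have cA : Nat.card (zpowers b) = p := by
    rw [Nat.card_zpowers, orderOf_eq_prime bp fun e => bx (by rw [e, one_smul])]
  have cop : (Nat.card (zpowers b)).Coprime (Nat.card K) := cA ▸ (Nat.Prime.coprime_iff_not_dvd hp).2 hK
  obtain ⟨R, hR, AR⟩ := exists_isSylowIn_le_normalizer r (zpowers_le.2 bK) cop (Or.inl inferInstance)
  have cop' : (Nat.card (zpowers b)).Coprime (Nat.card R) := cop.coprime_dvd_right (card_dvd_of_le hR.le)
  have d1 : r ∣ osz R x := dvd_osz_of_sylow hr hR (osz_eq_of_mem hx ▸ hd)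
  have RO : orb R x ⊆ orb K a := orb_eq_of_mem hx ▸ orb_mono hR.le x
  have b1 : b • x ∈ orb R x := by
    by_contra hn
    have e1 : (R ⊔ zpowers b) ⊓ stabilizer G x = R ⊓ stabilizer G x :=
      le_antisymm (fun w hw => ⟨by
        obtain ⟨k, hk, g, hg, rfl⟩ := (mem_sup_iff_of_le_normalizer AR).1 hw.1
        by_cases g1 : g = 1
        · rwa [g1, mul_one]
        have e2 : zpowers g = zpowers b := eq_of_le_of_card_ge (zpowers_le.2 hg) (by
          rw [cA, ((Nat.dvd_prime hp).1 (cA ▸ card_dvd_of_le (zpowers_le.2 hg))).resolve_left fun e =>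
            g1 (zpowers_eq_bot.1 (card_eq_one.1 e))])
        refine (hn (pw (inv (AR hg) ⟨k⁻¹, inv_mem hk, ?_⟩) (e2 ▸ mem_zpowers b) x (self_mem_orb R x))).elim
        rw [inv_smul_eq_iff, ← mul_smul]
        exact (mem_stabilizer_iff.1 hw.2).symm, hw.2⟩) (inf_le_inf_right _ le_sup_left)
    have e2 := osz_mul_card (R ⊔ zpowers b) x
    have e3 := card_sup_mul_card_inf AR
    rw [disjoint_iff.1 (disjoint_of_coprime_natCard cop'), card_bot, mul_one, cA, sup_comm, ← e2, e1,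
      ← osz_mul_card R x, ← mul_assoc] at e3
    have e4 := Nat.eq_of_mul_eq_mul_right Nat.card_pos e3
    have e5 : osz (R ⊔ zpowers b) x ≤ osz K a := by
      rw [osz_eq_ncard, osz_eq_ncard]
      refine Set.ncard_le_ncard ?_ (Set.toFinite _)
      rintro _ ⟨w, hw, rfl⟩
      obtain ⟨g, hg, k, hk, rfl⟩ := (mem_sup_iff_of_le_normalizer AR).1 hw
      rw [mul_smul]
      exact smul_mem_orb (hR.le hg) (pw bO hk _ hx)
    have := Nat.mul_le_mul_left p (hr.two_le.trans (Nat.le_of_dvd (osz_pos R x) d1))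
    omega
  have e1 : orb (zpowers b) x = {x | x ∈ orb K a ∧ b • x ≠ x} := Set.eq_of_subset_of_ncard_le (by
    rintro _ ⟨g, hg, rfl⟩
    refine ⟨pw bO hg x hx, fun e => bx ?_⟩
    obtain ⟨n, rfl⟩ := hg
    rwa [← mul_smul, ((Commute.refl b).zpow_right n).eq, mul_smul, smul_left_cancel_iff] at e) (by
      rw [hβ, ← osz_eq_ncard, ((Nat.dvd_prime hp).1 (cA ▸ osz_dvd_card _ x)).resolve_left fun e =>
        bx (osz_eq_one_iff.1 e b (mem_zpowers b))]) (Set.toFinite _)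
  have e2 : {x | x ∈ orb K a ∧ b • x ≠ x} ⊆ orb R x := by
    rw [← e1]
    rintro _ ⟨g, hg, rfl⟩
    exact pw (inv (AR (mem_zpowers b)) b1) hg x (self_mem_orb R x)
  have e3 := Set.ncard_sdiff_add_ncard_of_subset e2
  rw [hβ, ← osz_eq_ncard] at e3
  have fx : ∀ y ∈ orb R x \ {x | x ∈ orb K a ∧ b • x ≠ x}, ∀ g ∈ zpowers b, g • y = y := fun y hy =>
    show zpowers b ≤ stabilizer G y from zpowers_le.2 (by_contra fun e => hy.2 ⟨RO hy.1, e⟩)
  obtain ⟨y, hy⟩ := Set.nonempty_of_ncard_ne_zero (s := orb R x \ {x | x ∈ orb K a ∧ b • x ≠ x}) fun e =>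
    rp (by rwa [← e3, e, zero_add] at d1)
  have e4 : orb R x \ {x | x ∈ orb K a ∧ b • x ≠ x} = orb (R ⊓ centralizer (zpowers b : Set G)) y := by
    ext w
    constructor
    · intro hw
      obtain ⟨k, hk, rfl⟩ := orb_eq_of_mem hy.1 ▸ hw.1
      exact glauberman_exists_centralizer AR cop' (Or.inl inferInstance) y (fx y hy) hk (fx _ hw)
    · rintro ⟨c, hc, rfl⟩
      exact ⟨smul_mem_orb hc.1 hy.1, fun e => e.2 (by
        rw [← mul_smul, hc.2 b (mem_zpowers b), mul_smul, fx y hy b (mem_zpowers b)])⟩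
  obtain ⟨c, hc⟩ := exists_osz_eq_pow hr (hR.isPGroup.to_inf_left (K := centralizer (zpowers b : Set G))) y
  obtain ⟨m, hm⟩ := exists_osz_eq_pow hr hR.isPGroup x
  rw [e4, ← osz_eq_ncard, hc] at e3
  obtain rfl : c = 0 := by_contra fun e => rp ((Nat.dvd_add_right (dvd_pow_self r e)).1 (e3 ▸ d1))
  rw [pow_zero, hm] at e3
  obtain rfl : r = 2 := ((Nat.prime_dvd_prime_iff_eq Nat.prime_two hr).1 (Nat.prime_two.dvd_of_dvd_pow (by
    have := hp.eq_two_or_odd.resolve_left p2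
    rw [← e3]; omega))).symm
  exact ⟨rfl, m, by omega⟩

end LSx

theorem ls : LS.{u, v} := by
  intro G Ω _ _ _ _ p K b a hp p2 hK bp bK bO hβ h1 h2
  have key := @LSx.key G Ω _ _ _ _ p K b a hp p2 hK bp bK bO hβ h2
  have e1 := Nat.eq_prime_pow_of_unique_prime_dvd (osz_pos K a).ne' fun hr hd => (key hr hd).1
  obtain ⟨r, hr, hd⟩ := Nat.exists_prime_and_dvd (show osz K a ≠ 1 by have := hp.two_le; omega)
  obtain ⟨-, e, he⟩ := key hr hd
  refine ⟨?_, e, he⟩
  generalize (osz K a).primeFactorsList.length = f at e1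
  rw [e1] at h1 h2 ⊢
  have h3 : e ≤ f := (Nat.pow_le_pow_iff_right one_lt_two).1 (by omega)
  have h4 : f < e + 1 := (Nat.pow_lt_pow_iff_right one_lt_two).1 (by rw [pow_succ]; omega)
  rw [he, show f = e by omega]

end CL.EQ
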