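import Cfsg.Agent.EQ.Basic

/-! Project EQ: conjugacy of the point stabilisers in `B` and transitivity of the normaliser. -/

set_option autoImplicit false

open Cfsg CL.Grp MulAction Subgroup
open scoped Pointwise

namespace CL.EQ

universe u v

namespace LTx

variable {G : Type u} {Ω : Type v} [Group G] [Finite G] [MulAction G Ω] [Finite Ω] {p q : ℕ} {B : Subgroup G}

theorem big (h : Hyp G Ω p q) (hB : EA p B) (ho : ∀ a : Ω, osz B a = p) (hc : CJS Ω B) (a : Ω) :
    p * p < (orb (normalizer (B : Set G)) a).ncard := by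
  classical
  have := Fintype.ofFinite G
  have := Fintype.ofFinite Ω
  have := Fact.mk h.hp
  have hp := h.p5
  set O := (orb (normalizer (B : Set G)) a).toFinset with hO
  set S : Finset G := Finset.univ.filter (· ∈ B) with hS
  have hk : ∀ x : Ω, p * Nat.card (B ⊓ stabilizer G x : Subgroup G) = Nat.card B := fun x => ho x ▸ osz_mul_card B x
  obtain ⟨j, hj⟩ := Nat.exists_eq_add_one_of_ne_zero (Nat.card_pos (α := (B ⊓ stabilizer G a : Subgroup G))).ne'
  have h1 : S.card = p * (j + 1) := by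
    rw [← hj, hk, hS, ← Fintype.card_subtype, Nat.card_eq_fintype_card]
  have h2 : ∀ x ∈ O, (S.bipartiteBelow (fun b x => b • x = x) x).card = j + 1 := fun x _ => by
    rw [← hj, Nat.eq_of_mul_eq_mul_left h.hp.pos ((hk a).trans (hk x).symm), Finset.bipartiteBelow, hS,
      Finset.filter_filter, ← Fintype.card_subtype, Nat.card_eq_fintype_card]
    exact Fintype.card_congr (Equiv.refl _)
  have h3 : ∀ b ∈ S.erase 1, p ≤ (O.bipartiteAbove (fun b x => b • x = x) b).card := fun b hb => by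
    rw [Finset.mem_erase, hS, Finset.mem_filter] at hb
    obtain ⟨w, hw⟩ := h.el b (by rw [orderOf_eq_prime (hB.2 b hb.2.2) hb.1]; exact h.hp)
    obtain ⟨n, hn, k⟩ := hc w a
    have k1 : b • n⁻¹ • a = n⁻¹ • a := by
      have := (k b hb.2.2).1 hw
      rwa [mul_smul, mul_smul, smul_eq_iff_eq_inv_smul] at this
    rw [← ho (n⁻¹ • a), osz_eq_ncard, ← Set.ncard_coe_finset]
    refine Set.ncard_le_ncard (fun y hy => ?_) (Set.toFinite _)
    rw [Finset.mem_coe, Finset.mem_bipartiteAbove, hO, Set.mem_toFinset]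
    refine ⟨?_, hB.fix_orb hb.2.2 k1 hy⟩
    obtain ⟨c, k2, rfl⟩ := hy
    exact smul_mem_orb (le_normalizer k2) ⟨n⁻¹, inv_mem hn, rfl⟩
  have h4 := Finset.sum_card_bipartiteAbove_eq_sum_card_bipartiteBelow (s := S) (t := O) fun b x => b • x = x
  have h5 : (1 : G) ∈ S := by simp [hS]
  have h6 := Finset.card_nsmul_le_sum _ _ _ h3
  rw [Finset.sum_congr rfl h2, Finset.sum_const, ← Finset.add_sum_erase _ _ h5, Finset.bipartiteAbove,
    Finset.filter_true_of_mem fun x _ => one_smul G x] at h4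
  rw [Finset.card_erase_of_mem h5, h1, smul_eq_mul] at h6
  rw [Set.ncard_eq_toFinset_card', ← hO]
  obtain ⟨m, hm⟩ := Nat.exists_eq_add_one_of_ne_zero (show p * (j + 1) ≠ 0 by positivity)
  rw [hm, Nat.add_sub_cancel] at h6
  rw [smul_eq_mul] at h4
  by_contra! hle
  have h7 := Nat.mul_le_mul_right j hle
  have h8 : (m + 1) * p = p * (j + 1) * p := by rw [hm]
  nlinarith

omit [Finite Ω] in
theorem conj (h : Hyp G Ω p q) {P : Subgroup G} {c : Ω} (hP : IsSylowIn p P ⊤) (hB : EA p B)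
    (ho : ∀ a : Ω, osz B a = p) (hW : WW p P B) (hc : osz P c = p) (a : Ω) :
    ∃ n ∈ normalizer (B : Set G), MulAut.conj n • (B ⊓ stabilizer G a) = B ⊓ stabilizer G c := by
  have := Fact.mk h.hp
  have hk : ∀ x : Ω, p * Nat.card (B ⊓ stabilizer G x : Subgroup G) = Nat.card B := fun x => ho x ▸ osz_mul_card B x
  obtain ⟨g, hg⟩ := h.tr a c
  have hA : ∀ y : G, EA p (MulAut.conj y • (B ⊓ stabilizer G a) : Subgroup G) := (hB.mono inf_le_left).conj
  obtain ⟨y, -, h1⟩ := (h.sylow_stab hP hc).exists_conj_le (hA g).isPGroup ((conj_smul_le_iff _ _ _).2 fun b hb => by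
    rw [mem_stabilizer_iff, ← hg, mul_smul, mul_smul, inv_smul_smul, mem_stabilizer_iff.1 hb.2])
  rw [conj_smul_conj_smul] at h1
  generalize y * g = g₁ at h1
  have h2 : MulAut.conj g₁ • (B ⊓ stabilizer G a) = B ⊓ stabilizer G c := eq_of_le_of_card_ge
    (le_inf (hW _ (h1.trans inf_le_left) (hA g₁) (by rw [card_conj_smul, hk])) (h1.trans inf_le_right))
    (by rw [card_conj_smul]; exact Nat.le_of_mul_le_mul_left ((hk c).trans (hk a).symm).le h.hp.pos)
  have h3 : ∀ E : Subgroup G, EA p E → B ⊓ stabilizer G c ≤ E →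
      E ≤ centralizer ((B ⊓ stabilizer G c : Subgroup G) : Set G) :=
    fun E hE k x hx => mem_centralizer_iff.2 fun z hz => hE.1 z (k hz) x hx
  obtain ⟨S, hS, h4⟩ := exists_isSylowIn_ge hB.isPGroup (h3 B hB inf_le_left)
  obtain ⟨e, he, h5⟩ := hS.exists_conj_le (hB.conj g₁).isPGroup
    (h3 _ (hB.conj g₁) (h2 ▸ pointwise_smul_le_pointwise_smul_iff.2 inf_le_left))
  obtain ⟨k, -, h6⟩ := hP.exists_conj_le hS.isPGroup le_top
  have h7 : ∀ z : G, MulAut.conj z • B ≤ S → MulAut.conj k • MulAut.conj z • B = B := fun z hz => eq_of_le_of_card_ge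
    (hW _ ((pointwise_smul_le_pointwise_smul_iff.2 hz).trans h6) ((hB.conj z).conj k)
      (by rw [card_conj_smul, card_conj_smul]; exact Nat.le_mul_of_pos_left _ h.hp.pos))
    (by rw [card_conj_smul, card_conj_smul])
  rw [conj_smul_conj_smul] at h5
  have h8 := (h7 _ h5).trans (h7 1 (by simpa using h4)).symm
  refine ⟨e * g₁, (conj_smul_eq_self_iff _ _).1 (by simpa using h8), ?_⟩
  rw [← conj_smul_conj_smul, h2, conj_smul_eq_self_iff]
  exact centralizer_le_normalizer _ he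

end LTx

theorem lt : LT.{u, v} := by
  intro G Ω _ _ _ _ p q B h hB ho hc
  have h1 := LTx.big h hB ho hc
  have h2 := h.qp
  have h3 := h.hp.pos
  refine ⟨?_, fun a b => ?_⟩
  · obtain ⟨a⟩ : Nonempty Ω := (Nat.card_pos_iff.1 (by rw [h.card]; have := h.hq.pos; positivity)).1
    have h4 := (h1 a).trans_le (Set.ncard_le_card _)
    rw [h.card] at h4
    nlinarith
  · by_contra hn
    have h4 := Set.ncard_le_card (orb (normalizer (B : Set G)) b ∪ orb (normalizer (B : Set G)) a)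
    rw [Set.ncard_union_eq (disjoint_orb hn), h.card] at h4
    nlinarith [h1 a, h1 b]

theorem cj : CJ.{u, v} := by
  intro G Ω _ _ _ _ p q P B c h hP _ hB ho hW hc a b
  obtain ⟨n, hn, k1⟩ := LTx.conj h hP hB ho hW hc a
  obtain ⟨m, hm, k2⟩ := LTx.conj h hP hB ho hW hc b
  have hN := mul_mem (inv_mem hm) hn
  have k3 : MulAut.conj (m⁻¹ * n) • (B ⊓ stabilizer G a) = B ⊓ stabilizer G b := by
    rw [← conj_smul_conj_smul, k1, ← k2, conj_smul_conj_smul]
    simp
  refine ⟨m⁻¹ * n, hN, fun x hx => ⟨fun e => ?_, fun e => ?_⟩⟩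
  · exact (k3 ▸ conj_mem_conj_smul (m⁻¹ * n) (H := B ⊓ stabilizer G a) ⟨hx, e⟩ : _ ∈ B ⊓ stabilizer G b).2
  · have k4 : m⁻¹ * n * x * (m⁻¹ * n)⁻¹ ∈ B ⊓ stabilizer G b := ⟨(mem_normalizer_iff.1 hN x).1 hx, e⟩
    rw [← k3, mem_conj_smul_iff] at k4
    simpa [mul_assoc] using k4.2

end CL.EQ
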