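import Cfsg.Agent.EQ.Basic

/-! Project EQ: the normal closure of `Z` is transitive. -/

set_option autoImplicit false

open Cfsg CL.Grp MulAction Subgroup

namespace CL.EQ

universe u v

theorem mt (h1 : LS.{u, v}) (h2 : BU.{u}) : MT.{u, v} := by
  intro G Ω _ _ _ _ p q t Δ h
  set M : Subgroup G := normalClosure ({t ^ p} : Set G) with hM
  have hp := h.hp
  have hqp := h.qp
  have hq3 := h.q3
  have Hh : Hyp G Ω p q := h.toCC.toCB.toHyp
  have nrm : ∀ (K : Subgroup G) [K.Normal] (g : G), g ∈ normalizer (K : Set G) := fun K _ g => by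
    rw [normalizer_eq_top]; exact mem_top g
  have eqz : ∀ (K : Subgroup G) [K.Normal] (a b : Ω), osz K a = osz K b := fun K _ a b => by
    obtain ⟨g, rfl⟩ := h.tr a b
    exact (osz_smul (nrm K g) a).symm
  have dvd : ∀ (K : Subgroup G) [K.Normal] (a : Ω), osz K a ∣ 2 * p * q := fun K _ a =>
    Hh.osz_top a ▸ osz_dvd_of_normalized le_top (fun g _ => nrm K g) a
  obtain ⟨d, hd⟩ : Δ.Nonempty := Set.nonempty_of_ncard_ne_zero (by rw [h.cardD]; exact pow_ne_zero _ hp.ne_zero)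
  have zM : t ^ p ∈ M := subset_normalClosure rfl
  have ZM : zpowers (t ^ p) ≤ M := zpowers_le.2 zM
  by_cases ht : t ∈ M
  · intro a b
    have e1 : p ^ 2 ≤ osz M a := by
      rw [eqz M a d, osz_eq_ncard, ← h.cardD]
      refine Set.ncard_le_ncard (fun x hx => ?_) (Set.toFinite _)
      obtain ⟨y, hy, e⟩ := h.trD d hd x hx
      exact ⟨y, zpowers_le.2 ht hy, e⟩
    obtain ⟨k, hk⟩ := dvd M a
    have e2 : k = 1 := by
      rcases k with _ | _ | k
      · have := mul_pos (mul_pos two_pos hp.pos) h.hq.pos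
        omega
      · rfl
      · exfalso
        have := hp.pos
        nlinarith [Nat.zero_le (osz M a * k), mul_lt_mul_of_pos_left hqp hp.pos]
    rw [e2, mul_one, ← Hh.osz_top a] at hk
    have e3 := orb_eq_of_osz_le (le_top : M ≤ ⊤) hk.le
    obtain ⟨g, hg⟩ := h.tr a b
    have : b ∈ orb M a := e3 ▸ (⟨g, mem_top g, hg⟩ : b ∈ orb ⊤ a)
    exact this
  exfalso
  have hMP : ∀ x ∈ M, x ∈ zpowers t → x ∈ zpowers (t ^ p) := fun x hx hx' => by
    obtain ⟨j, rfl⟩ := mem_powers_iff_mem_zpowers.2 hx'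
    by_cases e : p ∣ j
    · obtain ⟨i, rfl⟩ := e
      change t ^ (p * i) ∈ _
      rw [pow_mul]; exact npow_mem_zpowers _ _
    · obtain ⟨m, hm⟩ := exists_pow_eq_self_of_coprime (x := t) (n := j)
        (h.ord ▸ ((hp.coprime_iff_not_dvd.2 e).symm.pow_right 2))
      exact absurd (hm ▸ M.pow_mem hx m) ht
  obtain ⟨K, hK⟩ := h2 G p t (M ⊔ zpowers t) hp h.ord (h.syl.of_le le_sup_right le_top) fun n hn hn' => by
    right
    refine hMP _ ?_ (mul_mem ((mem_normalizer_iff.1 hn' t).1 (mem_zpowers t)) (inv_mem (mem_zpowers t)))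
    obtain ⟨a, ha, b, hb, rfl⟩ := mem_sup_of_normal_left.1 hn
    obtain ⟨j, rfl⟩ := mem_zpowers_iff.1 hb
    rw [show a * t ^ j * t * (a * t ^ j)⁻¹ * t⁻¹ = a * (t * a⁻¹ * t⁻¹) by group]
    exact mul_mem ha (Subgroup.Normal.conj_mem inferInstance _ (inv_mem ha) t)
  have cop : ∀ k ∈ K, ¬ p ∣ orderOf k := fun k hk e => hK.cop (e.trans (orderOf_dvd_natCard _ hk))
  have KM : K ≤ M := fun k hk => by
    obtain ⟨m, hm⟩ := exists_pow_eq_self_of_coprime (x := k) (n := p ^ 2)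
      ((hp.coprime_iff_not_dvd.2 (cop k hk)).pow_left 2)
    refine hm ▸ M.pow_mem ?_ m
    obtain ⟨a, ha, b, hb, rfl⟩ := mem_sup_of_normal_left.1 (hK.le hk)
    obtain ⟨j, rfl⟩ := mem_zpowers_iff.1 hb
    rw [← QuotientGroup.eq_one_iff, QuotientGroup.mk_pow, QuotientGroup.mk_mul,
      (QuotientGroup.eq_one_iff a).2 ha, one_mul, ← QuotientGroup.mk_pow, ← zpow_natCast, ← zpow_mul, mul_comm,
      zpow_mul, zpow_natCast, ← h.ord, pow_orderOf_eq_one, one_zpow, QuotientGroup.mk_one]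
  have : K.Normal := ⟨fun k hk g => hK.mem _
    (mem_sup_left (Subgroup.Normal.conj_mem inferInstance _ (KM hk) g))
    (by rw [show g * k * g⁻¹ = MulAut.conj g k from rfl, MulEquiv.orderOf_eq]; exact cop k hk)⟩
  obtain ⟨c, hc⟩ := h.neG
  have e1 : osz M c ≤ osz K c := by
    rw [osz_eq_ncard, osz_eq_ncard]
    refine Set.ncard_le_ncard ?_ (Set.toFinite _)
    rintro _ ⟨m, hm, rfl⟩
    obtain ⟨k, hk, j, rfl⟩ := hK.dec m (mem_sup_left hm)
    refine ⟨k, hk, ?_⟩
    rw [mul_smul, (h.stG _ (npow_mem_zpowers t j) c hc).2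
      (hMP _ ((mul_mem_cancel_left (KM hk)).1 hm) (npow_mem_zpowers t j))]
  have eO : orb K d = orb M d := orb_eq_of_osz_le KM (by rw [eqz M d c, eqz K d c]; exact e1)
  have sub : ∀ x ∈ orb K d, orb (zpowers (t ^ p)) x ⊆ orb K d := fun x hx => by
    rw [eO] at hx ⊢
    exact (orb_mono ZM x).trans (orb_eq_of_mem hx).le
  have nc : ∀ x ∈ Δ, (orb (zpowers (t ^ p)) x).ncard = p := fun x hx => by rw [← osz_eq_ncard, h.oszD x hx]
  have s1 : ¬ p ∣ osz K d := fun e => hK.cop (e.trans (osz_dvd_card K d))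
  have s2 : p ≤ osz K d := by
    rw [osz_eq_ncard, ← nc d hd]
    exact Set.ncard_le_ncard (sub d (self_mem_orb K d)) (Set.toFinite _)
  have s3 : p < osz K d := lt_of_le_of_ne s2 fun e => s1 (e ▸ dvd_rfl)
  have s4 : osz K d = 2 * q := by
    obtain ⟨k, hk⟩ : osz K d ∣ 2 * q := (hp.coprime_iff_not_dvd.2 s1).symm.dvd_of_dvd_mul_left
      (by rw [← mul_assoc, mul_comm p 2]; exact dvd K d)
    rcases k with _ | _ | k
    · omega
    · omega
    · exfalso
      nlinarith [Nat.zero_le (osz K d * k)]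
  have z1 : t ^ p ≠ 1 := fun e => by
    have := Nat.le_of_dvd hp.pos (orderOf_dvd_of_pow_eq_one e)
    rw [h.ord] at this
    nlinarith [hp.one_lt]
  have mv : {x | x ∈ orb K d ∧ t ^ p • x ≠ x} = orb (zpowers (t ^ p)) d := by
    ext x
    constructor
    · rintro ⟨hx, hx'⟩
      by_contra e
      have xD : x ∈ Δ := by
        by_contra e'
        exact hx' ((h.stG _ (npow_mem_zpowers t p) x e').2 (mem_zpowers _))
      have := Set.ncard_le_ncard (Set.union_subset (sub x hx) (sub d (self_mem_orb K d))) (Set.toFinite _)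
      rw [Set.ncard_union_eq (disjoint_orb e) (Set.toFinite _) (Set.toFinite _), nc x xD, nc d hd,
        ← osz_eq_ncard, s4] at this
      omega
    · intro hx
      refine ⟨sub d (self_mem_orb K d) hx, fun e => z1 (h.regD _ (npow_mem_zpowers t p) x ?_ e)⟩
      obtain ⟨y, hy, rfl⟩ := hx
      exact h.invD y (h.le hy) d hd
  obtain ⟨f1, e, f2⟩ := h1 G Ω p K (t ^ p) d hp (by have := h.p5; omega) hK.cop
    (by rw [← pow_mul, ← sq, ← h.ord, pow_orderOf_eq_one]) (nrm K _)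
    (fun x hx => sub x hx ⟨_, mem_zpowers _, rfl⟩) (by rw [mv, nc d hd]) s3 (by omega)
  exact Hh.two_q_ne e (by omega)

end CL.EQ
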