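import Cfsg.Agent.EQ.Basic

/-!
Project EQ, job NT: the norm map of an element of order `p` with small commutator space is trivial.
-/

set_option autoImplicit false

open Cfsg CL.Grp MulAction Subgroup

namespace CL.EQ

universe u v

namespace NTx

open Polynomial in
theorem core {p : ℕ} [hp : Fact p.Prime] {V : Type*} [AddCommGroup V] [Module (ZMod p) V] [Finite V]
    (f : Module.End (ZMod p) V) (h5 : 5 ≤ p) (h1 : f ^ p = 1)
    (hc : Nat.card V ≤ p ^ 2 * Nat.card (LinearMap.ker (f - 1))) : ∑ i ∈ Finset.range p, f ^ i = 0 := by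
  have e1 : (X - 1 : (ZMod p)[X]) ^ p = X ^ p - 1 := by rw [sub_pow_char, one_pow]
  have e2 : ∑ i ∈ Finset.range p, (X : (ZMod p)[X]) ^ i = (X - 1) ^ (p - 1) := by
    refine mul_right_cancel₀ (X_sub_C_ne_zero 1) ?_
    rw [C_1, geom_sum_mul, ← pow_succ, Nat.sub_add_cancel hp.out.one_le, e1]
  have a1 := congrArg (aeval f) e1
  have a2 := congrArg (aeval f) e2
  simp only [map_pow, map_sub, map_sum, aeval_X, map_one, h1, sub_self] at a1 a2
  rw [a2]
  generalize f - 1 = T at hc a1
  have hr : Module.finrank (ZMod p) (LinearMap.range T) ≤ 2 := by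
    have c1 := Module.natCard_eq_pow_finrank (K := ZMod p) (V := V)
    have c2 := Module.natCard_eq_pow_finrank (K := ZMod p) (V := LinearMap.ker T)
    rw [c1, c2, Nat.card_zmod, ← pow_add, Nat.pow_le_pow_iff_right hp.out.one_lt,
      ← LinearMap.finrank_range_add_finrank_ker T] at hc
    omega
  have hm : ∀ x ∈ LinearMap.range T, T x ∈ LinearMap.range T := fun x _ => ⟨x, rfl⟩
  have k1 := Module.End.ker_pow_eq_ker_pow_finrank_of_le (f := T.restrict hm) hr
  have k2 := Module.End.ker_pow_eq_ker_pow_finrank_of_le (f := T.restrict hm) (m := p) (by omega)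
  have h3 : T ^ 3 = 0 := LinearMap.ext fun x => by
    have : (⟨T x, x, rfl⟩ : LinearMap.range T) ∈ LinearMap.ker (T.restrict hm ^ 2) := by
      rw [k1, ← k2, LinearMap.mem_ker, Module.End.pow_restrict]
      exact Subtype.ext (by simp [LinearMap.restrict_apply, a1])
    rw [LinearMap.mem_ker, Module.End.pow_restrict] at this
    exact congrArg Subtype.val this
  exact pow_eq_zero_of_le (by omega) h3

theorem norm {G : Type*} [Group G] {p : ℕ} [Fact p.Prime] {V : Type*} [AddCommGroup V] [Module (ZMod p) V] [Finite V]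
    (f : Module.End (ZMod p) V) (ι : V → G) (hι : Function.Injective ι) (h0 : ι 0 = 1)
    (ha : ∀ x y, ι (x + y) = ι x * ι y) {t : G} (hf : ∀ x, ι (f x) = t⁻¹ * ι x * t) (h5 : 5 ≤ p) (tp : t ^ p = 1)
    (hc : Nat.card V ≤ p ^ 2 * Nat.card {x // ι x * t = t * ι x}) (x : V) : (t * ι x) ^ p = 1 := by
  have hn : ∀ (n : ℕ) (x : V), ι ((f ^ n) x) = (t ^ n)⁻¹ * ι x * t ^ n := fun n => by
    induction n with
    | zero => simp
    | succ n ih => intro x; rw [pow_succ', Module.End.mul_apply, hf, ih, pow_succ]; group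
  have h1 : f ^ p = 1 := LinearMap.ext fun x => hι (by rw [hn, tp]; simp)
  have hk : Nat.card {x // ι x * t = t * ι x} ≤ Nat.card (LinearMap.ker (f - 1)) :=
    Nat.card_le_card_of_injective (fun x => ⟨x.1, by
      rw [LinearMap.mem_ker, LinearMap.sub_apply, sub_eq_zero]
      exact hι (by rw [hf, mul_assoc, x.2, inv_mul_cancel_left]; rfl)⟩)
      fun x y e => Subtype.ext (congrArg (fun z : LinearMap.ker (f - 1) => z.1) e)
  have hz := core f h5 h1 (hc.trans (Nat.mul_le_mul_left _ hk))
  have hs : ∀ n : ℕ, (t * ι x) ^ n = t ^ n * ι ((∑ i ∈ Finset.range n, f ^ i) x) := fun n => by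
    induction n with
    | zero => simp [h0]
    | succ n ih =>
      rw [pow_succ, ih, geom_sum_succ, LinearMap.add_apply, ha, Module.End.mul_apply, hf, pow_succ]
      simp [mul_assoc]
  rw [hs, hz, tp, LinearMap.zero_apply, h0, one_mul]

end NTx

theorem nt : NT.{u} := by
  intro G _ _ p B t hp h5 hB ht tp hc b hb
  have : Fact p.Prime := ⟨hp⟩
  let _ : CommGroup B := { (inferInstance : Group B) with mul_comm := fun a b => Subtype.ext (hB.1 _ a.2 _ b.2) }
  let _ : Module (ZMod p) (Additive B) := AddCommGroup.zmodModule fun x =>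
    Additive.toMul.injective (Subtype.ext (hB.2 _ x.toMul.2))
  let f₀ : B →* B :=
    { toFun := fun x => ⟨t⁻¹ * x * t, (mem_normalizer_iff''.1 ht x).1 x.2⟩
      map_one' := Subtype.ext (by simp)
      map_mul' := fun x y => Subtype.ext (by simp [mul_assoc]) }
  refine NTx.norm (G := G) (V := Additive B) ((MonoidHom.toAdditive f₀).toZModLinearMap p) (fun x => ((x.toMul : B) : G))
    (fun x y e => Additive.toMul.injective (Subtype.ext e)) rfl (fun _ _ => rfl) (fun _ => rfl) h5 tp
    (hc.trans (Nat.mul_le_mul_left _ ?_)) (Additive.ofMul ⟨b, hb⟩)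
  exact Nat.card_le_card_of_injective
    (fun x => ⟨Additive.ofMul ⟨x.1, x.2.1⟩, mem_centralizer_singleton_iff.1 x.2.2⟩)
    fun x y e => Subtype.ext (congrArg (fun z => ((Additive.toMul (Subtype.val z) : B) : G)) e)

end CL.EQ
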