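import Cfsg.Agent.EQ.Basic
import Cfsg.Agent.Grp.PGroupBasic

/-! Project EQ: the reductions to Cases B, C and the cyclic case. -/

set_option autoImplicit false
set_option linter.style.haveILetI false

open Cfsg CL.Grp MulAction Subgroup
open scoped Pointwise

namespace CL.EQ

universe u v

namespace RBx

theorem exists_index_p {G : Type u} [Group G] [Finite G] {p : ℕ} (hp : p.Prime) {D P : Subgroup G} (hP : IsPGroup p P)
    (h : ¬ P ≤ D) : ∃ B : Subgroup G, D ⊓ P ≤ B ∧ B ≤ P ∧ P ≤ normalizer (B : Set G) ∧ Nat.card P = p * Nat.card B := by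
  haveI := Fact.mk hp
  obtain ⟨M, hM, h1, h2⟩ := exists_normal_index_eq_ge hP (H := D.subgroupOf P) fun e => h (subgroupOf_eq_top.1 e)
  have e : (M.map P.subtype).subgroupOf P = M := comap_map_eq_self_of_injective P.subtype_injective M
  refine ⟨M.map P.subtype, fun x hx => ⟨⟨x, hx.2⟩, h1 hx.1, rfl⟩, map_subtype_le _,
    (normal_subgroupOf_iff_le_normalizer (map_subtype_le _)).1 (e.symm ▸ hM), ?_⟩
  rw [card_map_of_injective P.subtype_injective, ← h2, M.index_mul_card]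

variable {G : Type u} {Ω : Type v} [Group G] [Finite G] [MulAction G Ω] [Finite Ω] {p q : ℕ} {P B : Subgroup G}
  {Δ : Set Ω}

theorem osz_cases (h : Hyp G Ω p q) (hP : IsSylowIn p P ⊤) (a : Ω) : osz P a = p ∨ osz P a = p ^ 2 := by
  obtain ⟨k, hk⟩ := exists_osz_eq_pow h.hp hP.isPGroup a
  have h1 : p ∣ osz P a := dvd_osz_of_sylow h.hp hP (by rw [h.osz_top]; exact ⟨2 * q, by ring⟩)
  have h2 := osz_le_card P a
  rw [h.card, hk] at h2
  have h3 : p ^ k < p ^ 3 := h2.trans_lt (by have := h.qp; have := h.p5; nlinarith [mul_pos h.hp.pos h.hp.pos])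
  have h4 := (Nat.pow_lt_pow_iff_right h.hp.one_lt).1 h3
  rw [hk] at h1 ⊢
  obtain rfl | rfl | rfl : k = 0 ∨ k = 1 ∨ k = 2 := by omega
  · exact absurd (Nat.le_of_dvd one_pos h1) h.hp.one_lt.not_ge
  · exact .inl (pow_one p)
  · exact .inr rfl

theorem card_stab (h : CB G Ω p q P B Δ) {a : Ω} (ha : a ∉ Δ) :
    Nat.card (P ⊓ stabilizer G a : Subgroup G) = Nat.card B := by
  have := osz_mul_card P a
  rw [h.oszG a ha, h.cardP] at this
  exact Nat.eq_of_mul_eq_mul_left h.hp.pos this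

end RBx

open RBx

theorem rb (h1 : LK.{u,v}) (h2 : LT.{u,v}) (h3 : CJ.{u,v}) : RB.{u,v} := by
  intro G Ω _ _ _ _ p q h
  haveI := Fact.mk h.hp
  obtain ⟨P, hP⟩ := exists_isSylowIn p (⊤ : Subgroup G)
  have hpos : 0 < 2 * p * q := Nat.mul_pos (Nat.mul_pos two_pos h.hp.pos) h.hq.pos
  obtain ⟨d, hd⟩ : ∃ d : Ω, osz P d = p ^ 2 := by
    by_contra! k
    have k' : ∀ a : Ω, osz P a = p := fun a => (osz_cases h hP a).resolve_right (k a)
    have e := ea_of_osz_dvd h.hp h.faith hP.isPGroup fun a => (k' a).dvd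
    obtain ⟨c⟩ : Nonempty Ω := (Nat.card_pos_iff.1 (h.card ▸ hpos)).1
    obtain ⟨t1, t2⟩ := h2 G Ω p q P h e k' (h3 G Ω p q P P c h hP le_rfl e k' (fun A hA _ _ => hA) (k' c))
    exact h1 G Ω p q P h t1 e k' t2
  have hD : (orb P d).ncard = p ^ 2 := by rw [← osz_eq_ncard, hd]
  have hC : (orb P d)ᶜ.ncard + p ^ 2 = 2 * p * q := by rw [← hD, add_comm, Set.ncard_add_ncard_compl, h.card]
  have hG : ∀ a, a ∉ orb P d → osz P a = p := fun a ha => (osz_cases h hP a).resolve_right fun k => by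
    have := Set.ncard_le_ncard (disjoint_orb ha).subset_compl_right
    rw [← osz_eq_ncard, k] at this
    have := h.qp
    nlinarith [h.hp.pos]
  obtain ⟨B, b1, b2, b3, b4⟩ := exists_index_p h.hp hP.isPGroup (D := stabilizer G d) fun k => by
    rw [osz_eq_one_iff.2 fun b hb => k hb] at hd
    exact (Nat.one_lt_pow two_ne_zero h.hp.one_lt).ne hd
  have hB : osz B d = p := by
    have e1 := osz_mul_card P d
    have e2 := osz_mul_card B d
    rw [show B ⊓ stabilizer G d = P ⊓ stabilizer G d from le_antisymm (inf_le_inf_right _ b2)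
      (le_inf (inf_comm P _ ▸ b1) inf_le_right)] at e2
    rw [hd, b4, ← e2, pow_two, mul_assoc] at e1
    exact (Nat.eq_of_mul_eq_mul_right Nat.card_pos (Nat.eq_of_mul_eq_mul_left h.hp.pos e1)).symm
  have hB' : ∀ a ∈ orb P d, osz B a = p := by
    rintro _ ⟨x, hx, rfl⟩
    rw [osz_smul (b3 hx), hB]
  refine ⟨P, B, orb P d, h, hP, b2, ea_of_osz_dvd h.hp h.faith (hP.isPGroup.to_le b2) fun a => ?_, b3, b4, hD,
    fun a ha b hb => by rwa [← orb_eq_of_mem ha] at hb, fun x hx a ha => smul_mem_orb hx ha, ?_, hB', hG, hC, ?_⟩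
  · by_cases ha : a ∈ orb P d
    · exact (hB' a ha).dvd
    · exact hG a ha ▸ osz_dvd_of_normalized b2 b3 a
  · rintro x hx _ ⟨y, hy, rfl⟩ e
    refine (mem_normalizer_iff''.1 (b3 hy) x).2 (b1 ⟨?_, P.mul_mem (P.mul_mem (P.inv_mem hy) hx) hy⟩)
    show (y⁻¹ * x * y) • d = d
    rw [mul_smul, mul_smul, e, inv_smul_smul]
  · by_contra! k
    rw [Set.compl_empty_iff.2 (Set.eq_univ_of_forall k), Set.ncard_empty, zero_add] at hC
    exact h.not_dvd_two_q ⟨1, Nat.eq_of_mul_eq_mul_left h.hp.pos (by rw [mul_one, ← pow_two, hC]; ring)⟩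

theorem rc (h1 : LK.{u,v}) (h2 : LT.{u,v}) (h3 : CJ.{u,v}) (h4 : WB.{u,v}) : RC.{u,v} := by
  intro G Ω _ _ _ _ p q P B Δ h
  haveI := Fact.mk h.hp
  have w := h4 G Ω p q P B Δ h
  obtain ⟨c, hc, fc⟩ : ∃ c : Ω, c ∉ Δ ∧ ∀ b ∈ B, b • c = c := by
    by_contra k
    have k' : ∀ a : Ω, osz B a = p := fun a => by
      by_cases ha : a ∈ Δ
      · exact h.oszD a ha
      · exact ((Nat.dvd_prime h.hp).1 (h.oszG a ha ▸ osz_dvd_of_normalized h.le h.nrm a)).resolve_left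
          fun e => k ⟨a, ha, osz_eq_one_iff.1 e⟩
    obtain ⟨c, hc⟩ := h.neG
    obtain ⟨t1, t2⟩ := h2 G Ω p q B h.toHyp h.ea k' (h3 G Ω p q P B c h.toHyp h.syl h.le h.ea k' w (h.oszG c hc))
    exact h1 G Ω p q B h.toHyp t1 h.ea k' t2
  have st : ∀ a : Ω, a ∉ Δ → P ⊓ stabilizer G a = B := fun a ha => by
    obtain ⟨g, rfl⟩ := h.tr c a
    have s1 := h.toHyp.sylow_stab h.syl (h.oszG _ ha)
    have s2 : IsSylowIn p (MulAut.conj g • B) (stabilizer G (g • c)) :=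
      s1.of_card_le (h.ea.conj g).isPGroup ((conj_smul_le_iff _ _ _).2 fun x hx => by
        show (g * x * g⁻¹) • g • c = g • c
        rw [mul_smul, inv_smul_smul, mul_smul, fc x hx]) (by rw [card_conj_smul, card_stab h ha])
    obtain ⟨k, -, e⟩ := s2.exists_conj_eq s1
    refine eq_of_le_of_card_ge (w _ inf_le_left (e ▸ (h.ea.conj g).conj k) ?_) (card_stab h ha).ge
    rw [card_stab h ha]
    exact Nat.le_mul_of_pos_left _ h.hp.pos
  have stG : ∀ x ∈ P, ∀ a : Ω, a ∉ Δ → (x • a = a ↔ x ∈ B) := fun x hx a ha => by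
    rw [← st a ha]; exact ⟨fun e => ⟨hx, e⟩, fun e => e.2⟩
  have sylG : ∀ a : Ω, a ∉ Δ → IsSylowIn p B (stabilizer G a) := fun a ha =>
    st a ha ▸ h.toHyp.sylow_stab h.syl (h.oszG _ ha)
  have fixB : ∀ a : Ω, (∀ b ∈ B, b • a = a) ↔ a ∉ Δ := fun a =>
    ⟨fun k ha => h.hp.one_lt.ne ((osz_eq_one_iff.2 k).symm.trans (h.oszD a ha)),
      fun ha b hb => (stG b (h.le hb) a ha).2 hb⟩
  refine ⟨h, w, stG, sylG, fixB, fun a ha b hb => ?_, fun n hn a => ?_, fun x hx hB e => hB ?_⟩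
  · obtain ⟨g, hg⟩ := h.tr a b
    exact witt h.hp hg (sylG b hb) ((fixB a).2 ha)
  · rw [← not_iff_not, ← fixB, ← fixB, ← osz_eq_one_iff, ← osz_eq_one_iff, osz_smul hn]
  · obtain ⟨a, ha⟩ := h.el x (by rw [orderOf_eq_prime e fun k => hB (k ▸ B.one_mem)]; exact h.hp)
    by_cases k : a ∈ Δ
    exacts [h.stD x hx a k ha, (stG x hx a k).1 ha]

theorem ry : RY.{u,v} := by
  intro G Ω _ _ _ _ p q P B Δ h hle
  haveI := Fact.mk h.hp
  obtain ⟨a, ha⟩ : Δ.Nonempty := Set.nonempty_of_ncard_ne_zero (h.cardD ▸ pow_ne_zero 2 h.hp.ne_zero)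
  have cB : Nat.card B = p := le_antisymm hle (Nat.le_of_dvd Nat.card_pos (h.oszD a ha ▸ osz_dvd_card B a))
  have cP : Nat.card P = p ^ 2 := by rw [h.cardP, cB, pow_two]
  obtain ⟨t, ht, htB⟩ : ∃ t ∈ P, t ∉ B := by
    by_contra! k
    have := card_le_of_le (show P ≤ B from k)
    rw [cP, cB] at this
    nlinarith [h.hp.one_lt]
  have tp := h.pw t ht htB
  have ot : orderOf t = p ^ 2 := orderOf_eq_prime_pow (n := 1) (by rwa [pow_one]) (by
    rw [← orderOf_dvd_iff_pow_eq_one, ← cP]; exact orderOf_dvd_natCard _ ht)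
  obtain rfl : zpowers t = P := eq_of_le_of_card_ge (zpowers_le.2 ht) (by rw [Nat.card_zpowers, ot, cP])
  have tB : t ^ p ∈ B := by
    haveI := (normal_subgroupOf_iff_le_normalizer h.le).2 h.nrm
    have e : B.relIndex (zpowers t) = p := by
      have := card_eq_relIndex_mul_card h.le
      rw [h.cardP] at this
      exact (Nat.eq_of_mul_eq_mul_right Nat.card_pos this).symm
    have := (B.subgroupOf (zpowers t)).pow_index_mem ⟨t, ht⟩
    rwa [show (B.subgroupOf (zpowers t)).index = p from e] at this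
  obtain rfl : zpowers (t ^ p) = B := eq_of_le_of_card_ge (zpowers_le.2 tB) (by
    rw [Nat.card_zpowers, orderOf_eq_prime (h.ea.2 _ tB) tp, cB])
  refine ⟨t, h, ot, fun x hx b hb e => ?_⟩
  have e1 := osz_mul_card (zpowers (t ^ p)) b
  rw [h.oszD b hb, cB] at e1
  have e2 : zpowers (t ^ p) ⊓ stabilizer G b = ⊥ :=
    card_eq_one.1 (Nat.eq_of_mul_eq_mul_left h.hp.pos (e1.trans (mul_one p).symm))
  exact mem_bot.1 (e2 ▸ (⟨h.stD x hx b hb e, e⟩ : x ∈ zpowers (t ^ p) ⊓ stabilizer G b))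

end CL.EQ
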