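import Cfsg.Agent.EQ.Basic
import Cfsg.Agent.Grp.Cores

/-! Project EQ: property (W) in Case B. -/

set_option autoImplicit false
set_option linter.style.haveILetI false

open Cfsg CL.Grp MulAction Subgroup

namespace CL.EQ

universe u v

namespace WBx
variable {G : Type u} {Ω : Type v} [Group G] [MulAction G Ω] [Finite G]

/-- a stabiliser of index `p` in a `p`-group fixes the orbit -/
theorem fix_orb {p : ℕ} (hp : p.Prime) {P : Subgroup G} (hP : IsPGroup p P) {c y : Ω} (hc : osz P c = p) {x : G}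
    (hx : x ∈ P) (e : x • c = c) (hy : y ∈ orb P c) : x • y = y := by
  haveI := Fact.mk hp
  have hi : ((stabilizer G c).subgroupOf P).index = p := hc
  have hN : ((stabilizer G c).subgroupOf P).Normal := by
    obtain ⟨n, hn⟩ := IsPGroup.iff_card.mp hP
    have hn0 : n ≠ 0 := by
      rintro rfl
      have := ((stabilizer G c).subgroupOf P).index_dvd_card
      rw [hn, hi, pow_zero, Nat.dvd_one] at this
      exact hp.one_lt.ne' this
    apply Subgroup.normal_of_index_eq_minFac_card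
    rw [hi, hn, hp.pow_minFac hn0]
  obtain ⟨g, hg, rfl⟩ := hy
  have k : (g⁻¹ * x * g⁻¹⁻¹) • c = c := hN.conj_mem ⟨x, hx⟩ e (⟨g, hg⟩ : P)⁻¹
  rw [inv_inv, mul_smul, mul_smul, inv_smul_eq_iff] at k
  exact k

variable [Finite Ω] {p q : ℕ} {P B : Subgroup G} {Δ : Set Ω} (h : CB G Ω p q P B Δ) {t : G} (tP : t ∈ P) (tB : t ∉ B)
include h tP tB

theorem many {b : G} (hb : b ∈ B) (e : (t * b) ^ p = 1) : p ≤ {a | a ∉ Δ ∧ (t * b) • a = a}.ncard := by
  haveI := Fact.mk h.hp
  have xP := mul_mem tP (h.le hb)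
  have xB : t * b ∉ B := fun k => tB ((mul_mem_cancel_right hb).1 k)
  obtain ⟨c, hc⟩ := h.el (t * b) (by rw [orderOf_eq_prime e fun k => xB (k ▸ one_mem B)]; exact h.hp)
  have cD : c ∉ Δ := fun k => xB (h.stD _ xP c k hc)
  rw [← h.oszG c cD, osz_eq_ncard]
  refine Set.ncard_le_ncard (fun y hy => ⟨fun k => cD ?_, fix_orb h.hp h.syl.isPGroup (h.oszG c cD) xP hc hy⟩)
  obtain ⟨g, hg, rfl⟩ := hy
  simpa using h.invD _ (inv_mem hg) _ k

theorem few {a : Ω} (ha : a ∉ Δ) : p * {b | b ∈ B ∧ (t * b) • a = a}.ncard ≤ Nat.card B := by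
  rcases Set.eq_empty_or_nonempty {b | b ∈ B ∧ (t * b) • a = a} with e | ⟨b0, hb0, e0⟩
  · simp [e]
  have o : osz B a = p := by
    refine ((Nat.dvd_prime h.hp).1 (h.oszG a ha ▸ osz_dvd_of_normalized h.le h.nrm a)).resolve_left fun k => ?_
    have k1 := osz_mul_card P a
    rw [h.oszG a ha, h.cardP, Nat.mul_left_cancel_iff h.hp.pos] at k1
    have k2 : B = P ⊓ stabilizer G a :=
      eq_of_le_of_card_ge (fun b hb => ⟨h.le hb, osz_eq_one_iff.1 k b hb⟩) k1.le
    exact tB ((mul_mem_cancel_right hb0).1 (k2 ▸ ⟨mul_mem tP (h.le hb0), e0⟩ : t * b0 ∈ B))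
  rw [← osz_mul_card B a, o]
  refine Nat.mul_le_mul_left _ ?_
  rw [← SetLike.coe_sort_coe, Nat.card_coe_set_eq]
  refine Set.ncard_le_ncard_of_injOn (fun b => b0⁻¹ * b) (fun b hb => ⟨B.mul_mem (B.inv_mem hb0) hb.1, ?_⟩)
    fun _ _ _ _ k => mul_left_cancel k
  change (b0⁻¹ * b) • a = a
  rw [mul_smul, inv_smul_eq_iff]
  exact MulAction.injective t (by simp only [← mul_smul]; rw [hb.2, e0])

end WBx

theorem wb (h : NT.{u}) : WB.{u, v} := by
  classical
  intro G Ω _ _ _ _ p q P B Δ c A AP ea hc t ht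
  by_contra tB
  have tP := AP ht
  have r : B.relIndex P = p := by
    have := card_mul_relIndex c.le
    rw [c.cardP, mul_comm p, Nat.mul_left_cancel_iff Nat.card_pos] at this
    exact this
  have c1 : Nat.card A ≤ p * Nat.card (B ⊓ A : Subgroup G) := by
    rw [← card_inf_mul_relIndex B A, mul_comm]
    exact Nat.mul_le_mul_right _ (r ▸ relIndex_le_of_le_right AP (r ▸ c.hp.ne_zero))
  have c2 : Nat.card (B ⊓ A : Subgroup G) ≤ Nat.card (B ⊓ centralizer {t} : Subgroup G) :=
    card_le_of_le (inf_le_inf_left _ fun a ha => mem_centralizer_singleton_iff.2 (ea.1 a ha t ht))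
  have nt := h G p B t c.hp c.p5 c.ea (c.nrm tP) (ea.2 t ht) (by
    rw [pow_two, mul_assoc]
    exact hc.trans (Nat.mul_le_mul_left _ (c1.trans (Nat.mul_le_mul_left _ c2))))
  have dc := Finset.card_mul_le_card_mul (s := (B : Set G).toFinite.toFinset) (t := Δᶜ.toFinite.toFinset)
    (fun b a => (t * b) • a = a) (m := p) (n := Nat.card B / p) (fun b hb => by
      have hb' : b ∈ B := by simpa using hb
      refine (WBx.many c tP tB hb' (nt b hb')).trans (le_of_eq ?_)
      rw [← Set.ncard_coe_finset]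
      congr 1
      ext a
      simp [Finset.bipartiteAbove]) fun a ha => by
      rw [Nat.le_div_iff_mul_le c.hp.pos, mul_comm]
      refine le_of_eq_of_le ?_ (WBx.few c tP tB (a := a) (by simpa using ha))
      rw [← Set.ncard_coe_finset]
      congr 2
      ext b
      simp [Finset.bipartiteBelow]
  rw [← Set.ncard_eq_toFinset_card, ← Set.ncard_eq_toFinset_card, ← Nat.card_coe_set_eq (B : Set G),
    SetLike.coe_sort_coe] at dc
  have d1 : Nat.card B / p * p ≤ Nat.card B := Nat.div_mul_le_self _ _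
  have d2 : Nat.card B * (p * p) ≤ Nat.card B * Δᶜ.ncard :=
    calc _ = Nat.card B * p * p := by ring
      _ ≤ Δᶜ.ncard * (Nat.card B / p) * p := Nat.mul_le_mul_right _ dc
      _ ≤ _ := by rw [mul_assoc, mul_comm (Nat.card B)]; exact Nat.mul_le_mul_left _ d1
  have d3 := Nat.le_of_mul_le_mul_left d2 Nat.card_pos
  have d4 := c.cardG
  have d5 := c.qp
  have d6 := c.hp.pos
  nlinarith

end CL.EQ
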